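import Mathlib
import Cfsg.Agent.Lib.PGroups.Omega

/-!
# A normal subgroup of a 2-group without an invariant four subgroup

`S` is normal in the 2-group `P` and contains two commuting involutions.  Either `S` contains a
four subgroup `⟨z, q⟩` normal in `P`, or `S = ⟨c⟩ ∪ x⟨c⟩` with `⟨c⟩` normal in `P`, `x` an
involution and `x c x⁻¹ = c ^ r`, `r ≡ 3 (mod 4)`.
-/

set_option autoImplicit false

namespace Cfsg.Agent.Lib.GammaRankOne

open Subgroup

section Arith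

/-- Cancel an odd factor in a divisibility by a power of two. -/
theorem dvd_of_mul_odd {n : ℕ} {a b : ℤ} (hb : b % 2 = 1) (h : (2 : ℤ) ^ n ∣ a * b) :
    (2 : ℤ) ^ n ∣ a := by
  refine IsCoprime.dvd_of_dvd_mul_right ?_ h
  exact (Int.prime_two.coprime_iff_not_dvd.2 (by omega)).pow_left

/-- If `s ≡ 2 (mod 4)` and `2 ^ n ∣ i * s` then `2 ^ n ∣ 2 * i`. -/
theorem dvd_two_mul_of_mul {n : ℕ} {i s : ℤ} (hs : s % 4 = 2) (h : (2 : ℤ) ^ n ∣ i * s) :
    (2 : ℤ) ^ n ∣ 2 * i := by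
  refine dvd_of_mul_odd (b := s / 2) (by omega) ?_
  have : 2 * i * (s / 2) = i * s := by
    have : 2 * (s / 2) = s := by omega
    calc 2 * i * (s / 2) = i * (2 * (s / 2)) := by ring
      _ = i * s := by rw [this]
  rwa [this]

/-- `2 ^ (m + 1) ∣ 2 * i` gives `2 ^ (m+1) ∣ i` or `2 ^ (m+1) ∣ i - 2 ^ m`. -/
theorem dvd_or_of_two_mul {m : ℕ} {i : ℤ} (h : (2 : ℤ) ^ (m + 1) ∣ 2 * i) :
    (2 : ℤ) ^ (m + 1) ∣ i ∨ (2 : ℤ) ^ (m + 1) ∣ i - 2 ^ m := by
  obtain ⟨k, hk⟩ := h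
  have hi : i = 2 ^ m * k := by
    have : 2 * i = 2 * (2 ^ m * k) := by rw [hk]; ring
    omega
  rcases Int.even_or_odd k with ⟨j, hj⟩ | ⟨j, hj⟩
  · exact Or.inl ⟨j, by rw [hi, hj]; ring⟩
  · exact Or.inr ⟨j, by rw [hi, hj]; ring⟩

end Arith

section Basic

variable {P : Type*} [Group P]

/-- Conjugation of a power. -/
theorem conj_zpow_of {g c : P} {r : ℤ} (h : g * c * g⁻¹ = c ^ r) (i : ℤ) :
    g * c ^ i * g⁻¹ = c ^ (r * i) := by
  rw [← conj_zpow, h, ← zpow_mul]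

/-- Composition of two conjugations. -/
theorem conj_mul_of {g k c : P} {r s : ℤ} (hg : g * c * g⁻¹ = c ^ r)
    (hk : k * c * k⁻¹ = c ^ s) : g * k * c * (g * k)⁻¹ = c ^ (r * s) := by
  calc g * k * c * (g * k)⁻¹ = g * (k * c * k⁻¹) * g⁻¹ := by group
    _ = c ^ (r * s) := by rw [hk]; exact conj_zpow_of hg s

theorem zpow_eq_iff {c : P} {n : ℕ} (hc : orderOf c = 2 ^ n) {a b : ℤ} :
    c ^ a = c ^ b ↔ (2 : ℤ) ^ n ∣ a - b := by
  rw [← orderOf_dvd_sub_iff_zpow_eq_zpow, hc]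
  push_cast
  rfl

theorem zpow_eq_one_iff {c : P} {n : ℕ} (hc : orderOf c = 2 ^ n) {a : ℤ} :
    c ^ a = 1 ↔ (2 : ℤ) ^ n ∣ a := by
  rw [← orderOf_dvd_iff_zpow_eq_one, hc]
  push_cast
  rfl

/-- The only involution of a cyclic 2-group. -/
theorem sq_one_mem_zpowers {c : P} {m : ℕ} (hc : orderOf c = 2 ^ (m + 1)) {y : P}
    (hy : y ∈ zpowers c) (hy2 : y * y = 1) : y = 1 ∨ y = c ^ ((2 : ℤ) ^ m) := by
  obtain ⟨i, rfl⟩ := mem_zpowers_iff.1 hy
  rw [← zpow_add, zpow_eq_one_iff hc, ← two_mul] at hy2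
  rcases dvd_or_of_two_mul hy2 with h | h
  · exact Or.inl ((zpow_eq_one_iff hc).2 h)
  · exact Or.inr ((zpow_eq_iff hc).2 h)

end Basic

variable {P : Type*} [Group P] [Finite P]

/-- A subgroup normal in a 2-group, of exponent two and not cyclic, contains a normal four group. -/
theorem four_of_elementary (hP : IsPGroup 2 P) (E : Subgroup P) [E.Normal]
    (hE2 : ∀ a ∈ E, a * a = 1) (hE : ∃ a ∈ E, ∃ b ∈ E, a ≠ 1 ∧ b ≠ 1 ∧ a ≠ b) :
    ∃ z ∈ E, ∃ q ∈ E, z ∈ center P ∧ z ≠ 1 ∧ q ≠ 1 ∧ q ≠ z ∧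
      ∀ t : P, t * q * t⁻¹ = q ∨ t * q * t⁻¹ = z * q := by
  have : Fact (Nat.Prime 2) := ⟨Nat.prime_two⟩
  obtain ⟨a, ha, b, hb, ha1, hb1, hab⟩ := hE
  have hne : E ≠ ⊥ := fun h => ha1 (mem_bot.1 (h ▸ ha))
  obtain ⟨z, hz, hz1⟩ : ∃ z ∈ E ⊓ center P, z ≠ 1 := by
    by_contra hcon
    push Not at hcon
    exact PGroups.normal_inf_center_ne_bot hP E hne (eq_bot_iff.2 fun x hx => mem_bot.2 (hcon x hx))
  have hzc : z ∈ center P := hz.2
  have hzn : (zpowers z).Normal :=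
    ⟨fun x hx g => by
      rw [mem_center_iff.1 ((zpowers_le.2 hzc) hx) g, mul_inv_cancel_right]; exact hx⟩
  have hzz : ∀ x ∈ zpowers z, x = 1 ∨ x = z := by
    intro x hx
    obtain ⟨i, rfl⟩ := mem_zpowers_iff.1 hx
    have h2 : z ^ (2 : ℤ) = 1 := by rw [zpow_two]; exact hE2 z hz.1
    rcases Int.even_or_odd i with ⟨j, hj⟩ | ⟨j, hj⟩
    · left; rw [hj, ← two_mul, zpow_mul, h2, one_zpow]
    · right; rw [hj, zpow_add, zpow_mul, h2, one_zpow, one_mul, zpow_one]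
  let π := QuotientGroup.mk' (zpowers z)
  have hEn : (E.map π).Normal := Subgroup.Normal.map inferInstance π (QuotientGroup.mk'_surjective _)
  have hEne : E.map π ≠ ⊥ := by
    intro h
    have hk : E ≤ zpowers z := by
      intro x hx
      have : π x ∈ E.map π := ⟨x, hx, rfl⟩
      rw [h, mem_bot] at this
      exact (QuotientGroup.eq_one_iff x).1 this
    rcases hzz a (hk ha) with h' | h'
    · exact ha1 h'
    rcases hzz b (hk hb) with h'' | h''
    · exact hb1 h''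
    exact hab (h'.trans h''.symm)
  obtain ⟨w, hw, hw1⟩ : ∃ w ∈ E.map π ⊓ center (P ⧸ zpowers z), w ≠ 1 := by
    by_contra hcon
    push Not at hcon
    exact PGroups.normal_inf_center_ne_bot (hP.to_quotient _) _ hEne
      (eq_bot_iff.2 fun x hx => mem_bot.2 (hcon x hx))
  obtain ⟨q, hq, rfl⟩ := hw.1
  refine ⟨z, hz.1, q, hq, hzc, hz1, ?_, ?_, fun t => ?_⟩
  · rintro rfl
    exact hw1 (map_one π)
  · rintro rfl
    exact hw1 ((QuotientGroup.eq_one_iff _).2 (mem_zpowers _))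
  · have h1 : π (t * q * t⁻¹) = π q := by
      rw [map_mul, map_mul, map_inv, mem_center_iff.1 hw.2 (π t), mul_inv_cancel_right]
    have h2 : t * q * t⁻¹ * q⁻¹ ∈ zpowers z := by
      rw [← QuotientGroup.eq_one_iff]
      show π (t * q * t⁻¹ * q⁻¹) = 1
      rw [map_mul, h1, ← map_mul, mul_inv_cancel, map_one]
    rcases hzz _ h2 with h | h
    · exact Or.inl (mul_inv_eq_one.1 h)
    · exact Or.inr (mul_inv_eq_iff_eq_mul.1 h)

/-- An abelian 2-subgroup with only one involution is cyclic. -/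
theorem cyclic_of_unique (hP : IsPGroup 2 P) (C : Subgroup P) (hC : ∀ a ∈ C, ∀ b ∈ C, a * b = b * a)
    (hu : ∀ a ∈ C, ∀ b ∈ C, a * a = 1 → b * b = 1 → a ≠ 1 → b ≠ 1 → a = b) :
    ∃ c ∈ C, C = zpowers c := by
  obtain ⟨c, hc, hmax⟩ := Set.exists_max_image (C : Set P) (fun a => orderOf a) (Set.toFinite _)
    ⟨1, C.one_mem⟩
  refine ⟨c, hc, le_antisymm ?_ (zpowers_le.2 hc)⟩
  by_contra hnot
  obtain ⟨g₀, hg₀C, hg₀⟩ := SetLike.not_le_iff_exists.1 hnot
  have hex : ∃ k, g₀ ^ 2 ^ k ∈ zpowers c := by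
    obtain ⟨k, hk⟩ := hP g₀
    exact ⟨k, by rw [hk]; exact one_mem _⟩
  classical
  set k := Nat.find hex with hk
  have hk0 : k ≠ 0 := by
    intro h
    have := Nat.find_spec hex
    rw [← hk, h, pow_zero, pow_one] at this
    exact hg₀ this
  obtain ⟨j, hj⟩ := Nat.exists_eq_succ_of_ne_zero hk0
  set g := g₀ ^ 2 ^ j with hgdef
  have hgC : g ∈ C := C.pow_mem hg₀C _
  have hgnot : g ∉ zpowers c := Nat.find_min hex (by omega : j < Nat.find hex)
  have hg2 : g * g ∈ zpowers c := by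
    have := Nat.find_spec hex
    rw [← hk, hj, pow_succ, pow_mul] at this
    rwa [← sq]
  obtain ⟨n, hn⟩ := (IsPGroup.iff_orderOf.1 hP) c
  obtain ⟨e, he⟩ := (IsPGroup.iff_orderOf.1 hP) g
  obtain ⟨m, hm⟩ := mem_zpowers_iff.1 hg2
  have hen : e ≤ n := by
    have := hmax g hgC
    simp only [hn, he] at this
    exact (Nat.pow_le_pow_iff_right (by norm_num)).1 this
  have heven : ∀ m' : ℤ, m = 2 * m' → False := by
    intro m' hm'
    have hy : g * c ^ (-m') ≠ 1 := fun h =>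
      hgnot (by rw [mul_eq_one_iff_eq_inv] at h; rw [h]; exact inv_mem (zpow_mem (mem_zpowers c) _))
    have hy2 : g * c ^ (-m') * (g * c ^ (-m')) = 1 := by
      have hcomm := hC _ (C.zpow_mem hc (-m')) g hgC
      rw [mul_assoc, ← mul_assoc (c ^ (-m')), hcomm, mul_assoc g, ← mul_assoc, ← zpow_add,
        ← hm, ← zpow_add, hm']
      ring_nf
      simp
    have hn0 : n ≠ 0 := by
      rintro rfl
      rw [pow_zero, orderOf_eq_one_iff] at hn
      have hg1 : g ≠ 1 := fun h => hgnot (h ▸ one_mem _)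
      have := hmax g hgC
      simp only [hn, orderOf_one] at this
      exact hg1 (orderOf_eq_one_iff.1 (le_antisymm this (orderOf_pos g)))
    obtain ⟨l, rfl⟩ := Nat.exists_eq_succ_of_ne_zero hn0
    have hz2 : c ^ ((2 : ℤ) ^ l) * c ^ ((2 : ℤ) ^ l) = 1 := by
      rw [← zpow_add, zpow_eq_one_iff hn]
      exact ⟨1, by rw [pow_succ]; ring⟩
    have hz1 : c ^ ((2 : ℤ) ^ l) ≠ 1 := by
      rw [Ne, zpow_eq_one_iff hn]
      intro h
      have h' := Int.le_of_dvd (by positivity) h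
      have h'' : (2 : ℤ) ^ l < 2 ^ (l + 1) := by gcongr <;> omega
      rw [Nat.succ_eq_add_one] at h'
      linarith
    have := hu _ (C.mul_mem hgC (C.zpow_mem hc _)) _ (C.zpow_mem hc _) hy2 hz2 hy hz1
    refine hgnot ?_
    rw [eq_mul_inv_of_mul_eq this]
    exact mul_mem (zpow_mem (mem_zpowers c) _) (inv_mem (zpow_mem (mem_zpowers c) _))
  rcases Int.even_or_odd m with ⟨m', hm'⟩ | hodd
  · exact heven m' (by omega)
  · -- the order of `g` would be twice that of `c`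
    rcases Nat.eq_zero_or_pos n with rfl | hnpos
    · rw [pow_zero, orderOf_eq_one_iff] at hn
      exact heven 0 (by
        exfalso
        refine hgnot ?_
        have : e = 0 := by omega
        rw [this, pow_zero, orderOf_eq_one_iff] at he
        rw [he]; exact one_mem _)
    have hg2' : (g * g) ^ 2 ^ (n - 1) = 1 := by
      rw [← sq, ← pow_mul, ← pow_succ', show n - 1 + 1 = n by omega]
      exact orderOf_dvd_iff_pow_eq_one.1 (he ▸ pow_dvd_pow 2 hen)
    rw [← hm, ← zpow_natCast, ← zpow_mul, zpow_eq_one_iff hn, mul_comm] at hg2'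
    have := dvd_of_mul_odd (Int.odd_iff.1 hodd) hg2'
    have h' := Int.le_of_dvd (by positivity) this
    push_cast at h'
    have h'' : (2 : ℤ) ^ (n - 1) < 2 ^ n := by gcongr <;> omega
    linarith

/-- **The shape of `S`.** -/
theorem shape (hP : IsPGroup 2 P) (S : Subgroup P) [S.Normal]
    (hrank : ∃ p ∈ S, ∃ q ∈ S, p * p = 1 ∧ q * q = 1 ∧ p * q = q * p ∧ p ≠ 1 ∧ q ≠ 1 ∧ p ≠ q) :
    (∃ z ∈ S, ∃ q ∈ S, z ∈ center P ∧ z * z = 1 ∧ q * q = 1 ∧ z ≠ 1 ∧ q ≠ 1 ∧ q ≠ z ∧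
      ∀ t : P, t * q * t⁻¹ = q ∨ t * q * t⁻¹ = z * q) ∨
    ∃ (c x : P) (m : ℕ) (r : ℤ), c ∈ S ∧ x ∈ S ∧ orderOf c = 2 ^ (m + 2) ∧ x * x = 1 ∧
      x ∉ zpowers c ∧ (zpowers c).Normal ∧ x * c * x⁻¹ = c ^ r ∧ r % 4 = 3 ∧
      (2 : ℤ) ^ (m + 2) ∣ r * r - 1 ∧ ∀ s ∈ S, s ∈ zpowers c ∨ x * s ∈ zpowers c := by
  classical
  have : Fact (Nat.Prime 2) := ⟨Nat.prime_two⟩
  by_cases hE : ∃ E : Subgroup P, E.Normal ∧ E ≤ S ∧ (∀ a ∈ E, a * a = 1) ∧
      ∃ a ∈ E, ∃ b ∈ E, a ≠ 1 ∧ b ≠ 1 ∧ a ≠ b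
  · obtain ⟨E, hEn, hES, hE2, hE3⟩ := hE
    obtain ⟨z, hz, q, hq, hzc, hz1, hq1, hqz, ht⟩ := four_of_elementary hP E hE2 hE3
    exact Or.inl ⟨z, hES hz, q, hES hq, hzc, hE2 z hz, hE2 q hq, hz1, hq1, hqz, ht⟩
  -- a maximal abelian subgroup of `S` normal in `P`
  obtain ⟨C, ⟨hCn, hCS, hCab⟩, hmax⟩ := Set.exists_max_image
    {C : Subgroup P | C.Normal ∧ C ≤ S ∧ ∀ a ∈ C, ∀ b ∈ C, a * b = b * a}
    (fun C => Nat.card C) (Set.toFinite _)
    ⟨⊥, inferInstance, bot_le, fun a ha b hb => by rw [mem_bot.1 ha, mem_bot.1 hb]⟩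
  have hself : ∀ s ∈ S, (∀ a ∈ C, s * a = a * s) → s ∈ C := by
    have hcentn : (centralizer (C : Set P)).Normal := inferInstance
    let D : Subgroup P := S ⊓ centralizer (C : Set P)
    have hCD : C ≤ D := le_inf hCS fun a ha => mem_centralizer_iff.2 fun b hb => hCab b hb a ha
    intro s hs hsc
    by_contra hsC
    let π := QuotientGroup.mk' C
    have hDn : (D.map π).Normal :=
      Subgroup.Normal.map (Subgroup.normal_inf_normal S _) π (QuotientGroup.mk'_surjective _)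
    have hsD : s ∈ D := ⟨hs, mem_centralizer_iff.2 fun a ha => (hsc a ha).symm⟩
    have hne : D.map π ≠ ⊥ := fun h => by
      have : π s ∈ D.map π := ⟨s, hsD, rfl⟩
      rw [h, mem_bot] at this
      exact hsC ((QuotientGroup.eq_one_iff s).1 this)
    obtain ⟨w, hw, hw1⟩ : ∃ w ∈ D.map π ⊓ center (P ⧸ C), w ≠ 1 := by
      by_contra hcon
      push Not at hcon
      exact PGroups.normal_inf_center_ne_bot (hP.to_quotient _) _ hne
        (eq_bot_iff.2 fun x hx => mem_bot.2 (hcon x hx))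
    obtain ⟨d, hd, rfl⟩ := hw.1
    have hdC : d ∉ C := fun h => hw1 ((QuotientGroup.eq_one_iff d).2 h)
    let C' : Subgroup P := (zpowers (π d)).comap π
    have hC'n : C'.Normal := by
      refine Subgroup.Normal.comap ?_ π
      exact ⟨fun x hx g => by
        rw [mem_center_iff.1 ((zpowers_le.2 hw.2) hx) g, mul_inv_cancel_right]; exact hx⟩
    have hform : ∀ a ∈ C', ∃ (i : ℤ) (b : P), b ∈ C ∧ a = d ^ i * b := by
      intro a ha
      obtain ⟨i, hi⟩ := mem_zpowers_iff.1 (mem_comap.1 ha)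
      refine ⟨i, (d ^ i)⁻¹ * a, ?_, by group⟩
      rw [← QuotientGroup.eq_one_iff]
      show π ((d ^ i)⁻¹ * a) = 1
      rw [map_mul, map_inv, map_zpow, hi, inv_mul_cancel]
    have hdc : ∀ b ∈ C, Commute d b := fun b hb => (mem_centralizer_iff.1 hd.2 b hb).symm
    have hC'ab : ∀ a ∈ C', ∀ b ∈ C', a * b = b * a := by
      intro a ha b hb
      obtain ⟨i, a', ha', rfl⟩ := hform a ha
      obtain ⟨j, b', hb', rfl⟩ := hform b hb
      have h1 : Commute (d ^ i * a') (d ^ j * b') :=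
        ((Commute.zpow_zpow_self d i j).mul_right ((hdc b' hb').zpow_left i)).mul_left
          (((hdc a' ha').zpow_left j).symm.mul_right (hCab a' ha' b' hb'))
      exact h1.eq
    have hC'S : C' ≤ S := fun a ha => by
      obtain ⟨i, a', ha', rfl⟩ := hform a ha
      exact S.mul_mem (S.zpow_mem hd.1 _) (hCS ha')
    have hlt : C < C' := by
      refine lt_of_le_of_ne (fun a ha => ?_) (fun h => hdC ?_)
      · rw [mem_comap]
        have : π a = 1 := (QuotientGroup.eq_one_iff a).2 ha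
        rw [this]; exact one_mem _
      · rw [h, mem_comap]; exact mem_zpowers _
    have := hmax C' ⟨hC'n, hC'S, hC'ab⟩
    exact hlt.ne (Subgroup.eq_of_le_of_card_ge hlt.le this)
  have hu : ∀ a ∈ C, ∀ b ∈ C, a * a = 1 → b * b = 1 → a ≠ 1 → b ≠ 1 → a = b := by
    intro a ha b hb ha2 hb2 ha1 hb1
    by_contra hab
    refine hE ⟨{ carrier := {y | y ∈ C ∧ y * y = 1}
                 one_mem' := ⟨C.one_mem, one_mul 1⟩
                 mul_mem' := fun {u v} hu hv => ⟨C.mul_mem hu.1 hv.1, ?_⟩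
                 inv_mem' := fun {u} hu => ⟨C.inv_mem hu.1, by rw [← mul_inv_rev, hu.2, inv_one]⟩ },
      ⟨fun y hy g => ⟨hCn.conj_mem y hy.1 g, ?_⟩⟩, fun y hy => hCS hy.1, fun y hy => hy.2,
      a, ⟨ha, ha2⟩, b, ⟨hb, hb2⟩, ha1, hb1, hab⟩
    · calc u * v * (u * v) = u * (v * u) * v := by group
        _ = (u * u) * (v * v) := by rw [hCab v hv.1 u hu.1]; group
        _ = 1 := by rw [hu.2, hv.2, one_mul]
    · calc g * y * g⁻¹ * (g * y * g⁻¹) = g * (y * y) * g⁻¹ := by group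
        _ = 1 := by rw [hy.2]; group
  obtain ⟨c, hcC, rfl⟩ := cyclic_of_unique hP C hCab hu
  have hcS : c ∈ S := hCS hcC
  have hself' : ∀ s ∈ S, s * c * s⁻¹ = c → s ∈ zpowers c := fun s hs h =>
    hself s hs fun a ha => by
      obtain ⟨i, rfl⟩ := mem_zpowers_iff.1 ha
      exact ((show Commute s c from mul_inv_eq_iff_eq_mul.1 h).zpow_right i).eq
  obtain ⟨n, hn⟩ := (IsPGroup.iff_orderOf.1 hP) c
  have hact : ∀ t : P, ∃ r : ℤ, t * c * t⁻¹ = c ^ r := fun t =>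
    (mem_zpowers_iff.1 (hCn.conj_mem c hcC t)).imp fun r h => h.symm
  obtain ⟨p, hp, q, hq, hp2, hq2, hpq, hp1, hq1, hne⟩ := hrank
  -- `n ≥ 2`
  have hn2 : 2 ≤ n := by
    by_contra hlt
    have hall : ∀ s ∈ S, s ∈ zpowers c := by
      intro s hs
      refine hself' s hs ?_
      obtain ⟨r, hr⟩ := hact s
      rw [hr]
      interval_cases n
      · rw [pow_zero, orderOf_eq_one_iff] at hn
        rw [hn, one_zpow]
      · conv_rhs => rw [← zpow_one c]
        rw [zpow_eq_iff hn]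
        rcases Int.even_or_odd r with ⟨j, hj⟩ | ⟨j, hj⟩
        · exfalso
          have h1 : s * c * s⁻¹ = 1 := by
            rw [hr, zpow_eq_one_iff hn]; exact ⟨j, by omega⟩
          rw [conj_eq_one_iff] at h1
          rw [h1, orderOf_one] at hn
          norm_num at hn
        · exact ⟨j, by omega⟩
    exact hne (hu p (hall p hp) q (hall q hq) hp2 hq2 hp1 hq1)
  obtain ⟨m, rfl⟩ : ∃ m, n = m + 2 := ⟨n - 2, by omega⟩
  have hrodd : ∀ t : P, ∀ r : ℤ, t * c * t⁻¹ = c ^ r → r % 2 = 1 := by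
    intro t r hr
    by_contra h
    obtain ⟨j, rfl⟩ : ∃ j, r = 2 * j := ⟨r / 2, by omega⟩
    have h1 : (t * c * t⁻¹) ^ (2 ^ (m + 1) : ℕ) = 1 := by
      rw [hr, ← zpow_natCast, ← zpow_mul, zpow_eq_one_iff hn]
      exact ⟨j, by push_cast; ring⟩
    rw [conj_pow, conj_eq_one_iff] at h1
    have h2 := orderOf_dvd_iff_pow_eq_one.2 h1
    rw [hn] at h2
    have := (Nat.pow_dvd_pow_iff_le_right (by norm_num)).1 h2
    omega
  -- elements of `S` acting as `≡ 1 (mod 4)` lie in `⟨c⟩`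
  have hone : ∀ s ∈ S, ∀ r : ℤ, s * c * s⁻¹ = c ^ r → r % 4 = 1 → s ∈ zpowers c := by
    intro s₀ hs₀ r₀ hr₀ hr₀4
    by_contra hs₀C
    have hex : ∃ k, s₀ ^ 2 ^ k ∈ zpowers c := by
      obtain ⟨k, hk⟩ := hP s₀
      exact ⟨k, by rw [hk]; exact one_mem _⟩
    set k := Nat.find hex with hk
    have hk0 : k ≠ 0 := by
      intro h
      have := Nat.find_spec hex
      rw [← hk, h, pow_zero, pow_one] at this
      exact hs₀C this
    obtain ⟨j, hj⟩ := Nat.exists_eq_succ_of_ne_zero hk0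
    have hpow : ∀ e : ℕ, ∃ r : ℤ, s₀ ^ e * c * (s₀ ^ e)⁻¹ = c ^ r ∧ r % 4 = 1 := by
      intro e
      induction e with
      | zero => exact ⟨1, by simp, rfl⟩
      | succ e ih =>
        obtain ⟨r, hr, hr4⟩ := ih
        exact ⟨r * r₀, by rw [pow_succ]; exact conj_mul_of hr hr₀,
          by rw [Int.mul_emod, hr4, hr₀4]; rfl⟩
    obtain ⟨R, hR, hR4⟩ := hpow (2 ^ j)
    set w := s₀ ^ 2 ^ j with hw
    have hwS : w ∈ S := S.pow_mem hs₀ _
    have hwC : w ∉ zpowers c := Nat.find_min hex (by omega : j < Nat.find hex)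
    have hw2 : w * w ∈ zpowers c := by
      have := Nat.find_spec hex
      rw [← hk, hj, pow_succ, pow_mul] at this
      rwa [← sq]
    obtain ⟨l, hl⟩ := mem_zpowers_iff.1 hw2
    have hRR : (2 : ℤ) ^ (m + 2) ∣ R * R - 1 := by
      rw [← zpow_eq_iff hn, zpow_one, ← conj_mul_of hR hR, ← hl]
      group
    have hRne : ¬ (2 : ℤ) ^ (m + 2) ∣ R - 1 := fun h =>
      hwC (hself' w hwS (by rw [hR]; conv_rhs => rw [← zpow_one c]
                            exact (zpow_eq_iff hn).2 h))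
    have hR2 : (2 : ℤ) ^ (m + 2) ∣ 2 * (R - 1) := by
      refine dvd_two_mul_of_mul (s := R + 1) (by omega) ?_
      have : (R - 1) * (R + 1) = R * R - 1 := by ring
      rwa [this]
    have hm1 : 1 ≤ m := by
      by_contra hm0
      obtain rfl : m = 0 := by omega
      refine hRne ?_
      norm_num
      omega
    rcases dvd_or_of_two_mul hR2 with h | ⟨v, hv⟩
    · exact hRne h
    -- `l` is even
    have hlR : (2 : ℤ) ^ (m + 2) ∣ R * l - l := by
      rw [← zpow_eq_iff hn, ← conj_zpow_of hR l, hl]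
      group
    obtain ⟨l', hl'⟩ : ∃ l', l = 2 * l' := by
      rcases Int.even_or_odd l with ⟨l', hl'⟩ | hodd
      · exact ⟨l', by omega⟩
      · exfalso
        refine hRne (dvd_of_mul_odd (Int.odd_iff.1 hodd) ?_)
        have : (R - 1) * l = R * l - l := by ring
        rwa [this]
    have hcw : ∀ i : ℤ, w * c ^ i * (w * c ^ i) = c ^ (R * i + l + i) := by
      intro i
      calc w * c ^ i * (w * c ^ i) = (w * c ^ i * w⁻¹) * (w * w) * c ^ i := by group
        _ = c ^ (R * i + l + i) := by rw [conj_zpow_of hR, ← hl, zpow_add, zpow_add]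
    -- an involution in `w⟨c⟩`
    obtain ⟨i, hi⟩ : ∃ i : ℤ, (2 : ℤ) ^ (m + 2) ∣ R * i + l + i := by
      have hRe : R = 1 + 2 ^ (m + 1) + 2 ^ (m + 2) * v := by
        have : R - 1 - 2 ^ (m + 1) = 2 ^ (m + 2) * v := hv
        omega
      obtain ⟨u, hu⟩ : ∃ u : ℤ, (2 : ℤ) ^ m = 2 * u :=
        ⟨2 ^ (m - 1), by rw [← pow_succ']; congr 1; omega⟩
      rcases Int.even_or_odd l' with ⟨j', hj'⟩ | ⟨j', hj'⟩
      · refine ⟨-l', -(v * l') - j', ?_⟩
        rw [hRe, hl', hj', pow_succ (2 : ℤ) (m + 1), pow_succ (2 : ℤ) m]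
        ring
      · refine ⟨-l' - 2 ^ m, ?_⟩
        refine ⟨-(v * (l' + 2 ^ m)) - j' - u - 1, ?_⟩
        rw [hRe, hl', hj', pow_succ (2 : ℤ) (m + 1), pow_succ (2 : ℤ) m, hu]
        ring
    set x₀ := w * c ^ i with hx₀
    have hx₀2 : x₀ * x₀ = 1 := by rw [hx₀, hcw, zpow_eq_one_iff hn]; exact hi
    have hx₀S : x₀ ∈ S := S.mul_mem hwS (S.zpow_mem hcS _)
    have hx₀C : x₀ ∉ zpowers c := fun h => hwC (by
      have := mul_mem h (zpow_mem (mem_zpowers c) (-i))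
      rwa [hx₀, mul_assoc, ← zpow_add, add_neg_cancel, zpow_zero, mul_one] at this)
    have hx₀c : x₀ * c * x₀⁻¹ = c ^ R := by
      rw [hx₀, ← hR]; group
    -- the involutions in `x₀⟨c⟩` are `x₀` and `x₀ z`
    set z := c ^ ((2 : ℤ) ^ (m + 1)) with hzdef
    have hz2 : z * z = 1 := by
      rw [hzdef, ← zpow_add, zpow_eq_one_iff hn]; exact ⟨1, by ring⟩
    have hz1 : z ≠ 1 := by
      rw [hzdef, Ne, zpow_eq_one_iff hn]
      intro h
      have := Int.le_of_dvd (by positivity) h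
      have h'' : (2 : ℤ) ^ (m + 1) < 2 ^ (m + 2) := by gcongr <;> omega
      linarith
    have hzC : z ∈ zpowers c := zpow_mem (mem_zpowers c) _
    have hzcen : z ∈ center P := mem_center_iff.2 fun g => by
      have h1 : g * z * g⁻¹ = z := by
        rcases sq_one_mem_zpowers hn (hCn.conj_mem z hzC g)
          (by rw [show g * z * g⁻¹ * (g * z * g⁻¹) = g * (z * z) * g⁻¹ by group, hz2]; group)
          with h | h
        · exact absurd (conj_eq_one_iff.1 h) hz1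
        · exact h
      exact mul_inv_eq_iff_eq_mul.1 h1
    refine hE ⟨{ carrier := {y | y = 1 ∨ y = z ∨ y = x₀ ∨ y = z * x₀}
                 one_mem' := Or.inl rfl
                 mul_mem' := ?_
                 inv_mem' := ?_ }, ⟨?_⟩, ?_, ?_, z, Or.inr (Or.inl rfl), x₀,
      Or.inr (Or.inr (Or.inl rfl)), hz1, fun h => hx₀C (h ▸ one_mem _),
      fun h => hx₀C (h ▸ hzC)⟩
    · have hxz : x₀ * z = z * x₀ := mem_center_iff.1 hzcen x₀
      have e1 : z * (z * x₀) = x₀ := by rw [← mul_assoc, hz2, one_mul]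
      have e2 : x₀ * (z * x₀) = z := by rw [← mul_assoc, hxz, mul_assoc, hx₀2, mul_one]
      have e3 : z * x₀ * z = x₀ := by rw [mul_assoc, hxz, e1]
      have e4 : z * x₀ * x₀ = z := by rw [mul_assoc, hx₀2, mul_one]
      have e5 : z * x₀ * (z * x₀) = 1 := by rw [mul_assoc, e2, hz2]
      rintro u v (rfl | rfl | rfl | rfl) (rfl | rfl | rfl | rfl) <;>
        simp only [Set.mem_setOf_eq, one_mul, mul_one, hz2, hx₀2, hxz, e1, e2, e3, e4, e5,
          true_or, or_true]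
    · have hzi : z⁻¹ = z := inv_eq_of_mul_eq_one_right hz2
      have hxi : x₀⁻¹ = x₀ := inv_eq_of_mul_eq_one_right hx₀2
      rintro u (rfl | rfl | rfl | rfl) <;>
        simp only [Set.mem_setOf_eq, inv_one, mul_inv_rev, hzi, hxi,
          mem_center_iff.1 hzcen x₀, true_or, or_true]
    · intro y hy g
      have hgz : g * z * g⁻¹ = z := by rw [mem_center_iff.1 hzcen g, mul_inv_cancel_right]
      have hgx : g * x₀ * g⁻¹ = x₀ ∨ g * x₀ * g⁻¹ = z * x₀ := by
        obtain ⟨a, ha⟩ := hact g⁻¹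
        rw [inv_inv] at ha
        have h1 : g * x₀ * g⁻¹ * c * (g * x₀ * g⁻¹)⁻¹ = c ^ R := by
          calc g * x₀ * g⁻¹ * c * (g * x₀ * g⁻¹)⁻¹
              = g * (x₀ * (g⁻¹ * c * g) * x₀⁻¹) * g⁻¹ := by group
            _ = g * (g⁻¹ * c * g) ^ R * g⁻¹ := by rw [ha, conj_zpow_of hx₀c, ← zpow_mul, mul_comm]
            _ = (g * (g⁻¹ * c * g) * g⁻¹) ^ R := conj_zpow.symm
            _ = c ^ R := by group
        have hS' : g * x₀ * g⁻¹ ∈ S := Subgroup.Normal.conj_mem inferInstance x₀ hx₀S g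
        have h2 : x₀⁻¹ * (g * x₀ * g⁻¹) ∈ zpowers c := by
          refine hself' _ (S.mul_mem (S.inv_mem hx₀S) hS') ?_
          calc x₀⁻¹ * (g * x₀ * g⁻¹) * c * (x₀⁻¹ * (g * x₀ * g⁻¹))⁻¹
              = x₀⁻¹ * (g * x₀ * g⁻¹ * c * (g * x₀ * g⁻¹)⁻¹) * x₀ := by group
            _ = c := by rw [h1, ← hx₀c]; group
        obtain ⟨a', ha'⟩ := mem_zpowers_iff.1 h2
        have h3 : g * x₀ * g⁻¹ = x₀ * c ^ a' := by rw [ha']; group
        have h4 : (2 : ℤ) ^ (m + 2) ∣ a' * (R + 1) := by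
          rw [← zpow_eq_one_iff hn]
          have h5 : g * x₀ * g⁻¹ * (g * x₀ * g⁻¹) = 1 := by
            rw [show g * x₀ * g⁻¹ * (g * x₀ * g⁻¹) = g * (x₀ * x₀) * g⁻¹ by group, hx₀2]
            group
          rw [h3, show x₀ * c ^ a' * (x₀ * c ^ a') = (x₀ * c ^ a' * x₀⁻¹) * (x₀ * x₀) * c ^ a'
              by group, conj_zpow_of hx₀c, hx₀2, mul_one, ← zpow_add] at h5
          rw [← h5]
          ring_nf
        rcases dvd_or_of_two_mul (dvd_two_mul_of_mul (by omega) h4) with h | h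
        · left; rw [h3, (zpow_eq_one_iff hn).2 h, mul_one]
        · right; rw [h3, (zpow_eq_iff hn).2 h, ← hzdef, mem_center_iff.1 hzcen x₀]
      rcases hy with rfl | rfl | rfl | rfl
      · exact Or.inl (by group)
      · exact Or.inr (Or.inl hgz)
      · rcases hgx with h | h
        · exact Or.inr (Or.inr (Or.inl h))
        · exact Or.inr (Or.inr (Or.inr h))
      · have e : g * (z * x₀) * g⁻¹ = z * (g * x₀ * g⁻¹) := by
          rw [show g * (z * x₀) * g⁻¹ = (g * z * g⁻¹) * (g * x₀ * g⁻¹) by group, hgz]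
        rcases hgx with h | h
        · exact Or.inr (Or.inr (Or.inr (by rw [e, h])))
        · exact Or.inr (Or.inr (Or.inl (by rw [e, h, ← mul_assoc, hz2, one_mul])))
    · rintro y (rfl | rfl | rfl | rfl)
      · exact S.one_mem
      · exact S.zpow_mem hcS _
      · exact hx₀S
      · exact S.mul_mem (S.zpow_mem hcS _) hx₀S
    · rintro y (rfl | rfl | rfl | rfl)
      · exact one_mul 1
      · exact hz2
      · exact hx₀2
      · calc z * x₀ * (z * x₀) = z * (x₀ * z) * x₀ := by group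
          _ = (z * z) * (x₀ * x₀) := by rw [mem_center_iff.1 hzcen x₀]; group
          _ = 1 := by rw [hz2, hx₀2, one_mul]
  -- an involution outside `⟨c⟩`
  obtain ⟨x, hx, hx2, hxC⟩ : ∃ x ∈ S, x * x = 1 ∧ x ∉ zpowers c := by
    by_contra hcon
    push Not at hcon
    exact hne (hu p (hcon p hp hp2) q (hcon q hq hq2) hp2 hq2 hp1 hq1)
  obtain ⟨r, hr⟩ := hact x
  have hr4 : r % 4 = 3 := by
    have := hrodd x r hr
    rcases (by omega : r % 4 = 1 ∨ r % 4 = 3) with h | h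
    · exact absurd (hone x hx r hr h) hxC
    · exact h
  refine Or.inr ⟨c, x, m, r, hcS, hx, hn, hx2, hxC, hCn, hr, hr4, ?_, fun s hs => ?_⟩
  · rw [← zpow_eq_iff hn, zpow_one, ← conj_mul_of hr hr, hx2]
    group
  · obtain ⟨r', hr'⟩ := hact s
    rcases (by have := hrodd s r' hr'; omega : r' % 4 = 1 ∨ r' % 4 = 3) with h | h
    · exact Or.inl (hone s hs r' hr' h)
    · exact Or.inr (hone (x * s) (S.mul_mem hx hs) (r * r') (conj_mul_of hr hr')
        (by rw [Int.mul_emod, hr4, h]; rfl))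

end Cfsg.Agent.Lib.GammaRankOne
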