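import Mathlib
import Cfsg.Agent.Lib.GammaRankOne.Shape
import Cfsg.Agent.Lib.Fusion.Thompson

/-!
# A four group acting on a group of 2-rank at least two

`A` is a normal subgroup without subgroups of index two, `g * g ∈ A` for all `g`, and `U` is a
four group.  If `A` has two commuting involutions then some involution of `U` centralizes two
commuting involutions of `A`.  The only non-trivial case is a Sylow subgroup `⟨c⟩ ∪ x⟨c⟩` of `A`;
there the fusion of `⟨z, x⟩` gives for each element centralizing `⟨z, x⟩` an involution in the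
same coset of `A` fixed by the element of order three on `⟨z, x⟩`.
-/

set_option autoImplicit false

namespace Cfsg.Agent.Lib.GammaRankOne

open Subgroup
open scoped Pointwise

variable {G : Type*} [Group G] [Finite G]

/-- The intersection of a Sylow subgroup with a normal subgroup is a Sylow subgroup of it. -/
theorem exists_sylow_inter {p : ℕ} [Fact p.Prime] (A : Subgroup G) [A.Normal] (T : Sylow p G) :
    ∃ R : Sylow p ↥A, (R : Subgroup ↥A) = (T : Subgroup G).subgroupOf A := by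
  obtain ⟨R, hR⟩ := IsPGroup.exists_le_sylow
    (T.isPGroup'.comap_of_injective A.subtype A.subtype_injective)
  obtain ⟨T', hT'⟩ := IsPGroup.exists_le_sylow (R.isPGroup'.map A.subtype)
  obtain ⟨g, hg⟩ := MulAction.exists_smul_eq G T' T
  refine ⟨R, le_antisymm ?_ hR⟩
  have hle : ((R : Subgroup ↥A).map A.subtype).map (MulAut.conj g).toMonoidHom ≤
      ((T : Subgroup G).subgroupOf A).map A.subtype := by
    rintro _ ⟨y, hy, rfl⟩
    have hyT : MulAut.conj g y ∈ (T : Subgroup G) := by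
      rw [← hg]
      show MulAut.conj g y ∈ MulAut.conj g • (T' : Subgroup G)
      exact smul_mem_pointwise_smul y (MulAut.conj g) _ (hT' hy)
    obtain ⟨a, -, rfl⟩ := hy
    exact ⟨⟨g * a * g⁻¹, Subgroup.Normal.conj_mem inferInstance _ a.2 g⟩, hyT, rfl⟩
  have hcard := Subgroup.card_le_of_le hle
  rw [card_map_of_injective (MulAut.conj g).injective, card_map_of_injective A.subtype_injective,
    card_map_of_injective A.subtype_injective] at hcard
  exact (Subgroup.eq_of_le_of_card_ge hR hcard).ge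

/-- Pairwise commuting 2-elements generate a 2-group. -/
theorem two_group_pair {x z : G} (hx : IsPGroup 2 (zpowers x)) (hz : IsPGroup 2 (zpowers z))
    (h : x * z = z * x) : IsPGroup 2 ↥(zpowers z ⊔ zpowers x) :=
  hz.to_sup_of_normal_left' hx <| zpowers_le.2 <| by
    refine (centralizer_le_normalizer _) ?_
    rw [mem_centralizer_iff]
    intro y hy
    obtain ⟨i, rfl⟩ := mem_zpowers_iff.1 hy
    exact ((show Commute x z from h).zpow_right i).symm.eq

theorem two_group_zpowers_of_sq {x : G} (hx : x * x = 1) : IsPGroup 2 (zpowers x) := by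
  intro y
  refine ⟨1, Subtype.ext ?_⟩
  obtain ⟨i, hi⟩ := mem_zpowers_iff.1 y.2
  simp only [SubmonoidClass.coe_pow, OneMemClass.coe_one, pow_one]
  rw [← hi, sq, ← (Commute.refl x).mul_zpow, hx, one_zpow]

/-- Data of a Sylow 2-subgroup `⟨c⟩ ∪ x⟨c⟩` of the normal subgroup `A`. -/
structure Data (A : Subgroup G) (T : Sylow 2 G) where
  c : G
  x : G
  m : ℕ
  r : ℤ
  hcA : c ∈ A
  hcT : c ∈ (T : Subgroup G)
  hxA : x ∈ A
  hxT : x ∈ (T : Subgroup G)
  hc : orderOf c = 2 ^ (m + 2)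
  hx2 : x * x = 1
  hxC : x ∉ zpowers c
  hr : x * c * x⁻¹ = c ^ r
  hr4 : r % 4 = 3
  hrr : (2 : ℤ) ^ (m + 2) ∣ r * r - 1
  hS : ∀ s ∈ A, s ∈ (T : Subgroup G) → s ∈ zpowers c ∨ x * s ∈ zpowers c
  hnorm : ∀ t ∈ (T : Subgroup G), t * c * t⁻¹ ∈ zpowers c

variable {A : Subgroup G} [A.Normal] {T : Sylow 2 G}

namespace Data

variable (D : Data A T)

/-- The central involution. -/
def z : G := D.c ^ ((2 : ℤ) ^ (D.m + 1))

/-- An element of order four of `⟨c⟩`. -/
def d : G := D.c ^ ((2 : ℤ) ^ D.m)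

theorem zC : D.z ∈ zpowers D.c := zpow_mem (mem_zpowers _) _
theorem zA : D.z ∈ A := A.zpow_mem D.hcA _
theorem zT : D.z ∈ (T : Subgroup G) := Subgroup.zpow_mem _ D.hcT _
theorem dA : D.d ∈ A := A.zpow_mem D.hcA _
theorem dT : D.d ∈ (T : Subgroup G) := Subgroup.zpow_mem _ D.hcT _

theorem z2 : D.z * D.z = 1 := by
  rw [z, ← zpow_add, zpow_eq_one_iff D.hc]
  exact ⟨1, by ring⟩

theorem z1 : D.z ≠ 1 := by
  rw [z, Ne, zpow_eq_one_iff D.hc]
  intro h
  have h' := Int.le_of_dvd (by positivity) h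
  have h'' : (2 : ℤ) ^ (D.m + 1) < 2 ^ (D.m + 2) := by gcongr <;> omega
  linarith

theorem zinv : D.z⁻¹ = D.z := inv_eq_of_mul_eq_one_right D.z2
theorem xinv : D.x⁻¹ = D.x := inv_eq_of_mul_eq_one_right D.hx2

theorem zx_ne : D.z ≠ D.x := fun h => D.hxC (h ▸ D.zC)

theorem x1 : D.x ≠ 1 := fun h => D.hxC (h ▸ one_mem _)

theorem sq_mem {y : G} (hy : y ∈ zpowers D.c) (hy2 : y * y = 1) : y = 1 ∨ y = D.z :=
  sq_one_mem_zpowers D.hc hy hy2

/-- `z` is central in `T`. -/
theorem zT_comm {t : G} (ht : t ∈ (T : Subgroup G)) : t * D.z = D.z * t := by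
  have h1 : t * D.z * t⁻¹ ∈ zpowers D.c := by
    rw [z, ← conj_zpow]
    exact zpow_mem (D.hnorm t ht) _
  rcases D.sq_mem h1 (by
    rw [show t * D.z * t⁻¹ * (t * D.z * t⁻¹) = t * (D.z * D.z) * t⁻¹ by group, D.z2]; group)
    with h | h
  · exact absurd (conj_eq_one_iff.1 h) D.z1
  · exact mul_inv_eq_iff_eq_mul.1 h

theorem d_sq : D.d * D.d = D.z := by
  rw [d, z, ← zpow_add]
  congr 1
  ring

theorem xdx : D.x * D.d * D.x⁻¹ = D.d⁻¹ := by
  rw [d, conj_zpow_of D.hr, ← zpow_neg, zpow_eq_iff D.hc]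
  exact ⟨D.r / 4 + 1, by
    have : D.r + 1 = 4 * (D.r / 4 + 1) := by have := D.hr4; omega
    calc D.r * 2 ^ D.m - -2 ^ D.m = (D.r + 1) * 2 ^ D.m := by ring
      _ = 2 ^ (D.m + 2) * (D.r / 4 + 1) := by rw [this]; ring⟩

theorem dxd : D.d * D.x * D.d⁻¹ = D.z * D.x := by
  rw [← D.xdx, ← D.d_sq]
  have h := D.hx2
  have hxi := D.xinv
  calc D.d * D.x * (D.x * D.d * D.x⁻¹) = D.d * (D.x * D.x) * D.d * D.x⁻¹ := by group
    _ = D.d * D.d * D.x := by rw [h, hxi]; group

/-- The centralizer of an involution outside `⟨c⟩` in `T ∩ A`. -/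
theorem centS {y w : G} (hyA : y ∈ A) (hyT : y ∈ (T : Subgroup G)) (hy : y ∉ zpowers D.c)
    (hy2 : y * y = 1) (hwA : w ∈ A) (hwT : w ∈ (T : Subgroup G)) (hwy : w * y = y * w) :
    w = 1 ∨ w = D.z ∨ w = y ∨ w = D.z * y := by
  have hyc : ∀ e ∈ zpowers D.c, e * y = y * e → e = 1 ∨ e = D.z := by
    intro e he hey
    obtain ⟨i, rfl⟩ := mem_zpowers_iff.1 he
    obtain ⟨j, hj⟩ := mem_zpowers_iff.1 ((D.hS y hyA hyT).resolve_left hy)
    have hyj : y = D.x * D.c ^ j := by
      rw [hj, ← mul_assoc, D.hx2, one_mul]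
    have h1 : D.x * D.c ^ i * D.x⁻¹ = D.c ^ i := by
      have h2 : y * D.c ^ i * y⁻¹ = D.c ^ i := by rw [← hey, mul_inv_cancel_right]
      rw [hyj] at h2
      calc D.x * D.c ^ i * D.x⁻¹ = D.x * D.c ^ j * D.c ^ i * (D.x * D.c ^ j)⁻¹ := by group
        _ = D.c ^ i := h2
    rw [conj_zpow_of D.hr, zpow_eq_iff D.hc] at h1
    have h2 := dvd_two_mul_of_mul (n := D.m + 2) (i := i) (s := D.r - 1) (by have := D.hr4; omega)
      (by rwa [show i * (D.r - 1) = D.r * i - i by ring])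
    refine D.sq_mem (zpow_mem (mem_zpowers _) _) ?_
    rw [← zpow_add, zpow_eq_one_iff D.hc, ← two_mul]
    exact h2
  rcases D.hS w hwA hwT with hw | hw
  · rcases hyc w hw hwy with h | h
    · exact Or.inl h
    · exact Or.inr (Or.inl h)
  · have hyw : y * w ∈ zpowers D.c := by
      obtain ⟨i, hi⟩ := mem_zpowers_iff.1 hw
      obtain ⟨j, hj⟩ := mem_zpowers_iff.1 ((D.hS y hyA hyT).resolve_left hy)
      have : y * w = (D.x * D.c ^ j * D.x⁻¹) * D.c ^ i := by
        rw [hi, hj, D.xinv]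
        calc y * w = (D.x * D.x) * y * ((D.x * D.x) * w) := by rw [D.hx2]; group
          _ = D.x * (D.x * y) * D.x * (D.x * w) := by group
      rw [this, conj_zpow_of D.hr, ← zpow_add]
      exact zpow_mem (mem_zpowers _) _
    rcases hyc _ hyw (by rw [mul_assoc, hwy]) with h | h
    · right; right; left
      rw [← mul_left_cancel_iff (a := y), h, hy2]
    · right; right; right
      rw [← mul_left_cancel_iff (a := y), h, ← mul_assoc, D.zT_comm hyT, mul_assoc, hy2, mul_one]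

/-- A 2-element of `A` centralizing `⟨z, x⟩` lies in `⟨z, x⟩`. -/
theorem two_elem {p : G} (hpA : p ∈ A) (hp : IsPGroup 2 (zpowers p)) (hpx : p * D.x = D.x * p)
    (hpz : p * D.z = D.z * p) : p = 1 ∨ p = D.z ∨ p = D.x ∨ p = D.z * D.x := by
  have hzx : D.x * D.z = D.z * D.x := D.zT_comm D.hxT
  have hV : IsPGroup 2 ↥(zpowers D.z ⊔ zpowers D.x) :=
    two_group_pair (two_group_zpowers_of_sq D.hx2) (two_group_zpowers_of_sq D.z2) hzx
  have hQ : IsPGroup 2 ↥((zpowers D.z ⊔ zpowers D.x) ⊔ zpowers p) := by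
    refine hV.to_sup_of_normal_left' hp (zpowers_le.2 (centralizer_le_normalizer _ ?_))
    rw [mem_centralizer_iff]
    intro y hy
    have hle : zpowers D.z ⊔ zpowers D.x ≤ centralizer {p} :=
      sup_le (zpowers_le.2 (mem_centralizer_singleton_iff.2 hpz.symm))
        (zpowers_le.2 (mem_centralizer_singleton_iff.2 hpx.symm))
    exact mem_centralizer_singleton_iff.1 (hle hy)
  obtain ⟨T', hT'⟩ := IsPGroup.exists_le_sylow hQ
  obtain ⟨g, hg⟩ := MulAction.exists_smul_eq G T' T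
  let f : G →* G := (MulAut.conj g).toMonoidHom
  have hf : Function.Injective f := (MulAut.conj g).injective
  have hT : ∀ a ∈ (zpowers D.z ⊔ zpowers D.x) ⊔ zpowers p, f a ∈ (T : Subgroup G) := by
    intro a ha
    rw [← hg]
    show MulAut.conj g a ∈ MulAut.conj g • (T' : Subgroup G)
    exact smul_mem_pointwise_smul a (MulAut.conj g) _ (hT' ha)
  have hA : ∀ a ∈ A, f a ∈ A := fun a ha => Subgroup.Normal.conj_mem inferInstance a ha g
  have hxT := hT D.x (mem_sup_left (mem_sup_right (mem_zpowers _)))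
  have hzT := hT D.z (mem_sup_left (mem_sup_left (mem_zpowers _)))
  have hpT := hT p (mem_sup_right (mem_zpowers _))
  have hzxT : f (D.z * D.x) ∈ (T : Subgroup G) := by rw [map_mul]; exact mul_mem hzT hxT
  have hzxA : f (D.z * D.x) ∈ A := hA _ (A.mul_mem D.zA D.hxA)
  have sq1 : ∀ a : G, a * a = 1 → f a * f a = 1 := fun a h => by rw [← map_mul, h, map_one]
  have ne1 : ∀ a : G, a ≠ 1 → f a ≠ 1 := fun a h h' => h (hf (h'.trans (map_one f).symm))
  have cm : ∀ a b : G, a * b = b * a → f a * f b = f b * f a := fun a b h => by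
    rw [← map_mul, h, map_mul]
  have hzx2 : D.z * D.x * (D.z * D.x) = 1 := by
    calc D.z * D.x * (D.z * D.x) = D.z * (D.x * D.z) * D.x := by group
      _ = (D.z * D.z) * (D.x * D.x) := by rw [hzx]; group
      _ = 1 := by rw [D.z2, D.hx2, one_mul]
  have hzx1 : D.z * D.x ≠ 1 := fun h => D.zx_ne (by rw [mul_eq_one_iff_eq_inv, D.xinv] at h; exact h)
  -- one of the three involutions goes outside `⟨c⟩`
  obtain ⟨y, hyA, hyT, hy, hy2, hyx, hyz, hyp⟩ : ∃ y, y ∈ A ∧ y ∈ (T : Subgroup G) ∧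
      y ∉ zpowers D.c ∧ y * y = 1 ∧ f D.x * y = y * f D.x ∧ f D.z * y = y * f D.z ∧
      f p * y = y * f p := by
    by_cases hxc : f D.x ∈ zpowers D.c
    · have h1 := (D.sq_mem hxc (sq1 _ D.hx2)).resolve_left (ne1 _ D.x1)
      refine ⟨f D.z, hA _ D.zA, hzT, fun h => D.zx_ne (hf ?_), sq1 _ D.z2, cm _ _ hzx, rfl,
        cm _ _ hpz⟩
      rw [h1]
      exact (D.sq_mem h (sq1 _ D.z2)).resolve_left (ne1 _ D.z1)
    · exact ⟨f D.x, hA _ D.hxA, hxT, hxc, sq1 _ D.hx2, rfl, cm _ _ hzx.symm, cm _ _ hpx⟩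
  have hyzT := D.zT_comm hyT
  have e2 : y * (D.z * y) = D.z := by rw [← mul_assoc, hyzT, mul_assoc, hy2, mul_one]
  have e1 : D.z * (D.z * y) = y := by rw [← mul_assoc, D.z2, one_mul]
  have e3 : D.z * y * D.z = y := by rw [mul_assoc, hyzT, e1]
  have e4 : D.z * y * y = D.z := by rw [mul_assoc, hy2, mul_one]
  have hX := D.centS hyA hyT hy hy2 (hA _ D.hxA) hxT hyx
  have hZ := D.centS hyA hyT hy hy2 (hA _ D.zA) hzT hyz
  have hP := D.centS hyA hyT hy hy2 (hA _ hpA) hpT hyp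
  have hxz : f D.x ≠ f D.z := fun h => D.zx_ne (hf h).symm
  have hx' := ne1 _ D.x1
  have hz' := ne1 _ D.z1
  have key : ∀ w : G, (w = D.z ∨ w = y ∨ w = D.z * y) →
      w = f D.z ∨ w = f D.x ∨ w = f D.z * f D.x := by
    rcases hX with hX | hX | hX | hX
    · exact absurd hX hx'
    all_goals
      rcases hZ with hZ | hZ | hZ | hZ
      · exact absurd hZ hz'
      all_goals
        rw [hX, hZ] at hxz ⊢
        first
          | exact absurd rfl hxz
          | (rintro w (rfl | rfl | rfl) <;>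
              simp only [e1, e2, e3, e4, hyzT, true_or, or_true])
  rcases hP with h | h
  · exact Or.inl (hf (h.trans (map_one f).symm))
  · rcases key _ h with h' | h' | h'
    · exact Or.inr (Or.inl (hf h'))
    · exact Or.inr (Or.inr (Or.inl (hf h')))
    · exact Or.inr (Or.inr (Or.inr (hf (h'.trans (map_mul f _ _).symm))))

/-- The order of `T ∩ A`. -/
theorem card_inter :
    Nat.card ↥((T : Subgroup G).subgroupOf A) = 2 ^ (D.m + 2) * 2 ∧
      ((zpowers D.c).subgroupOf A).relIndex ((T : Subgroup G).subgroupOf A) = 2 := by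
  have hle : (zpowers D.c).subgroupOf A ≤ (T : Subgroup G).subgroupOf A := fun a ha =>
    (zpowers_le.2 D.hcT) ha
  have h2 : ((zpowers D.c).subgroupOf A).relIndex ((T : Subgroup G).subgroupOf A) = 2 := by
    rw [relIndex, index_eq_two_iff]
    refine ⟨⟨⟨D.x, D.hxA⟩, D.hxT⟩, fun b => ?_⟩
    simp only [mem_subgroupOf, Subgroup.coe_mul]
    obtain ⟨⟨b, hbA⟩, hbT⟩ := b
    rw [mem_subgroupOf] at hbT
    have hxb : D.x * (b * D.x) ∈ zpowers D.c ↔ b ∈ zpowers D.c := by
      have hn : ∀ a ∈ zpowers D.c, D.x * a * D.x ∈ zpowers D.c := by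
        intro a ha
        obtain ⟨i, rfl⟩ := mem_zpowers_iff.1 ha
        nth_rewrite 2 [← D.xinv]
        rw [conj_zpow_of D.hr]
        exact zpow_mem (mem_zpowers _) _
      refine ⟨fun h => ?_, fun h => by rw [← mul_assoc]; exact hn b h⟩
      have := hn _ h
      rwa [show D.x * (D.x * (b * D.x)) * D.x = (D.x * D.x) * b * (D.x * D.x) by group,
        D.hx2, one_mul, mul_one] at this
    by_cases hb : b ∈ zpowers D.c
    · exact Or.inr ⟨hb, fun h => D.hxC (by
        have := mul_mem (inv_mem hb) h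
        rwa [inv_mul_cancel_left] at this)⟩
    · refine Or.inl ⟨?_, hb⟩
      have hbx : b * D.x ∈ A ∧ b * D.x ∈ (T : Subgroup G) :=
        ⟨A.mul_mem hbA D.hxA, mul_mem hbT D.hxT⟩
      exact (D.hS _ hbx.1 hbx.2).resolve_right fun h => hb (hxb.1 h)
  refine ⟨?_, h2⟩
  have h := card_mul_index (((zpowers D.c).subgroupOf A).subgroupOf ((T : Subgroup G).subgroupOf A))
  rw [← relIndex, h2, Nat.card_congr (subgroupOfEquivOfLe hle).toEquiv,
    Nat.card_congr (subgroupOfEquivOfLe (zpowers_le.2 D.hcA)).toEquiv, Nat.card_zpowers, D.hc] at h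
  exact h.symm

/-- Every involution of `A` is conjugate to `z`. -/
theorem conj_z (hA2 : ∀ H : Subgroup ↥A, H.index ≠ 2) {a : G} (ha : a ∈ A) (ha2 : a * a = 1)
    (ha1 : a ≠ 1) : ∃ g, g * a * g⁻¹ = D.z := by
  have : Fact (Nat.Prime 2) := ⟨Nat.prime_two⟩
  obtain ⟨R, hR⟩ := exists_sylow_inter A T
  have ho : orderOf (⟨a, ha⟩ : ↥A) = 2 :=
    orderOf_eq_prime (Subtype.ext (by rw [SubmonoidClass.coe_pow, sq, ha2]; rfl))
      (fun h => ha1 (congrArg Subtype.val h))
  obtain ⟨g, hg⟩ := Fusion.Thompson.exists_conj_mem_maximal R ((zpowers D.c).subgroupOf A)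
    (hR ▸ fun b hb => (zpowers_le.2 D.hcT) hb) (hR ▸ D.card_inter.2) hA2 _ ho
  refine ⟨g, (D.sq_mem hg ?_).resolve_left ?_⟩
  · show (g : G) * a * (g : G)⁻¹ * ((g : G) * a * (g : G)⁻¹) = 1
    rw [show (g : G) * a * (g : G)⁻¹ * ((g : G) * a * (g : G)⁻¹) = g * (a * a) * (g : G)⁻¹
      by group, ha2]
    group
  · show (g : G) * a * (g : G)⁻¹ ≠ 1
    exact fun h => ha1 (conj_eq_one_iff.1 h)

/-- An element of `A` fixing `x` and exchanging `z` and `z x`. -/
theorem exists_e (hA2 : ∀ H : Subgroup ↥A, H.index ≠ 2) :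
    ∃ e ∈ A, e * D.x * e⁻¹ = D.x ∧ e * D.z * e⁻¹ = D.z * D.x := by
  have : Fact (Nat.Prime 2) := ⟨Nat.prime_two⟩
  obtain ⟨h, hh⟩ := D.conj_z hA2 D.hxA D.hx2 D.x1
  have hzx : D.x * D.z = D.z * D.x := D.zT_comm D.hxT
  let K : Subgroup G := A ⊓ centralizer {D.x}
  have hVK : zpowers D.z ⊔ zpowers D.x ≤ K :=
    sup_le (zpowers_le.2 ⟨D.zA, mem_centralizer_singleton_iff.2 hzx.symm⟩)
      (zpowers_le.2 ⟨D.hxA, mem_centralizer_singleton_iff.2 rfl⟩)
  obtain ⟨R, hR⟩ := IsPGroup.exists_le_sylow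
    (((two_group_pair (two_group_zpowers_of_sq D.hx2) (two_group_zpowers_of_sq D.z2) hzx)).comap_subtype
      (K := K))
  -- `R` is large
  have hsmall : (((T : Subgroup G).subgroupOf A).map A.subtype).map
      (MulAut.conj h⁻¹).toMonoidHom ≤ K := by
    rintro _ ⟨_, ⟨a, haT, rfl⟩, rfl⟩
    refine ⟨Subgroup.Normal.conj_mem inferInstance _ a.2 h⁻¹, mem_centralizer_singleton_iff.2 ?_⟩
    show h⁻¹ * a * h⁻¹⁻¹ * D.x = D.x * (h⁻¹ * a * h⁻¹⁻¹)
    have hx' : D.x = h⁻¹ * D.z * h := by rw [← hh]; group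
    rw [hx', inv_inv]
    calc h⁻¹ * a * h * (h⁻¹ * D.z * h) = h⁻¹ * (a * D.z) * h := by group
      _ = h⁻¹ * D.z * h * (h⁻¹ * a * h) := by rw [D.zT_comm (t := (a : G)) haT]; group
  have hSp : IsPGroup 2 ↥(((T : Subgroup G).subgroupOf A).map A.subtype) :=
    (T.isPGroup'.comap_of_injective A.subtype A.subtype_injective).map _
  obtain ⟨R', hR'⟩ := IsPGroup.exists_le_sylow ((hSp.map (MulAut.conj h⁻¹).toMonoidHom).comap_subtype
    (K := K))
  have hbig : 8 ≤ Nat.card (R : Subgroup ↥K) := by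
    rw [Nat.card_congr (Sylow.equiv R R').toEquiv]
    refine le_trans ?_ (Subgroup.card_le_of_le hR')
    rw [← subgroupOf, Nat.card_congr (subgroupOfEquivOfLe hsmall).toEquiv,
      card_map_of_injective (MulAut.conj h⁻¹).injective,
      card_map_of_injective A.subtype_injective, D.card_inter.1,
      show 2 ^ (D.m + 2) * 2 = 8 * 2 ^ D.m by ring]
    have := Nat.one_le_two_pow (n := D.m)
    omega
  let V0 : Subgroup ↥R := ((zpowers D.z ⊔ zpowers D.x).subgroupOf K).subgroupOf (R : Subgroup ↥K)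
  have hVmem : ∀ v ∈ zpowers D.z ⊔ zpowers D.x, v = 1 ∨ v = D.z ∨ v = D.x ∨ v = D.z * D.x := by
    intro v hv
    have hle : zpowers D.z ⊔ zpowers D.x ≤ A :=
      sup_le (zpowers_le.2 D.zA) (zpowers_le.2 D.hxA)
    have hcz : zpowers D.z ⊔ zpowers D.x ≤ centralizer {D.z} :=
      sup_le (zpowers_le.2 (mem_centralizer_singleton_iff.2 rfl))
        (zpowers_le.2 (mem_centralizer_singleton_iff.2 hzx))
    refine D.two_elem (hle hv) ?_ (mem_centralizer_singleton_iff.1 (hVK hv).2)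
      (mem_centralizer_singleton_iff.1 (hcz hv))
    exact ((two_group_pair (two_group_zpowers_of_sq D.hx2) (two_group_zpowers_of_sq D.z2) hzx)).to_le
      (zpowers_le.2 hv)
  have hVlt : V0 < ⊤ := by
    refine lt_top_iff_ne_top.2 fun htop => ?_
    have hcard : Nat.card (R : Subgroup ↥K) ≤ 4 := by
      classical
      have h4 : Nat.card ↥R ≤ ({1, D.z, D.x, D.z * D.x} : Set G).ncard := by
        rw [← Nat.card_coe_set_eq]
        refine Nat.card_le_card_of_injective (fun w : ↥R => ⟨((w : ↥K) : G), ?_⟩) ?_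
        · have hw : w ∈ V0 := htop ▸ mem_top w
          simp only [Set.mem_insert_iff, Set.mem_singleton_iff]
          exact hVmem _ hw
        · intro u v huv
          exact Subtype.ext (Subtype.ext (congrArg Subtype.val huv :))
      refine h4.trans ?_
      refine (Set.ncard_insert_le _ _).trans ?_
      refine Nat.succ_le_succ ((Set.ncard_insert_le _ _).trans ?_)
      refine Nat.succ_le_succ ((Set.ncard_insert_le _ _).trans ?_)
      rw [Set.ncard_singleton]
    omega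
  have := R.isPGroup'.isNilpotent
  obtain ⟨e, he, heV⟩ := SetLike.exists_of_lt (normalizerCondition_of_isNilpotent V0 hVlt)
  have heA : ((e : ↥K) : G) ∈ A := (e : ↥K).2.1
  have hex : ((e : ↥K) : G) * D.x = D.x * (e : ↥K) := mem_centralizer_singleton_iff.1 (e : ↥K).2.2
  refine ⟨_, heA, by rw [hex, mul_inv_cancel_right], ?_⟩
  have hzR : (⟨D.z, hVK (mem_sup_left (mem_zpowers _))⟩ : ↥K) ∈ (R : Subgroup ↥K) :=
    hR (mem_subgroupOf.2 (mem_sup_left (mem_zpowers _)))
  have hez := (mem_normalizer_iff.1 he ⟨_, hzR⟩).1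
    (show (⟨_, hzR⟩ : ↥R) ∈ V0 from mem_sup_left (mem_zpowers _))
  have hez' : ((e : ↥K) : G) * D.z * ((e : ↥K) : G)⁻¹ ∈ zpowers D.z ⊔ zpowers D.x := hez
  rcases hVmem _ hez' with h' | h' | h' | h'
  · exact absurd (conj_eq_one_iff.1 h') D.z1
  · exfalso
    refine heV ?_
    have hep : IsPGroup 2 (zpowers ((e : ↥K) : G)) := by
      have hRp : IsPGroup 2 ↥((R : Subgroup ↥K).map K.subtype) := R.isPGroup'.map _
      exact hRp.to_le (zpowers_le.2 ⟨(e : ↥K), e.2, rfl⟩)
    show ((e : ↥K) : G) ∈ zpowers D.z ⊔ zpowers D.x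
    rcases D.two_elem heA hep hex (mul_inv_eq_iff_eq_mul.1 h') with h | h | h | h <;> rw [h]
    · exact one_mem _
    · exact mem_sup_left (mem_zpowers _)
    · exact mem_sup_right (mem_zpowers _)
    · exact mul_mem (mem_sup_left (mem_zpowers _)) (mem_sup_right (mem_zpowers _))
  · have : D.z = D.x := by
      calc D.z = ((e : ↥K) : G)⁻¹ * D.x * (e : ↥K) := by rw [← h']; group
        _ = D.x := by rw [mul_assoc, ← hex, inv_mul_cancel_left]
    exact absurd this D.zx_ne
  · exact h'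

end Data

end Cfsg.Agent.Lib.GammaRankOne
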