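import Mathlib
import Cfsg.Agent.Lib.GammaRankOne.Fusion

/-!
# An involution of a four group centralizes two commuting involutions
-/

set_option autoImplicit false

namespace Cfsg.Agent.Lib.GammaRankOne

open Subgroup
open scoped Pointwise

variable {G : Type*} [Group G] [Finite G] {A : Subgroup G} [A.Normal] {T : Sylow 2 G}

theorem commutator_mem (hex : ∀ g : G, g * g ∈ A) (a b : G) : a * b * a⁻¹ * b⁻¹ ∈ A := by
  have h := A.mul_mem (A.mul_mem (hex a) (hex (a⁻¹ * b))) (hex b⁻¹)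
  have e : a * b * a⁻¹ * b⁻¹ = a * a * (a⁻¹ * b * (a⁻¹ * b)) * (b⁻¹ * b⁻¹) := by group
  rwa [e]

omit [Finite G] in
theorem pow_conj_mul {k w δ : G} (h : k * w * k⁻¹ = δ * w) (hδ : k * δ * k⁻¹ = δ) :
    ∀ j : ℕ, k ^ j * w * (k ^ j)⁻¹ = δ ^ j * w := by
  intro j
  induction j with
  | zero => simp
  | succ j ih =>
    calc k ^ (j + 1) * w * (k ^ (j + 1))⁻¹ = k * (k ^ j * w * (k ^ j)⁻¹) * k⁻¹ := by
          rw [pow_succ']; group
      _ = (k * δ * k⁻¹) ^ j * (k * w * k⁻¹) := by rw [ih, conj_pow]; group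
      _ = δ ^ (j + 1) * w := by rw [hδ, h, pow_succ]; group

namespace Data

variable (D : Data A T)

/-- For `t ∈ T` centralizing `⟨z, x⟩` there is an involution in `t (A ∩ T)` centralizing `⟨z, x⟩`
and an element of order four of `⟨c⟩`. -/
theorem exists_y (hA2 : ∀ H : Subgroup ↥A, H.index ≠ 2) (hex : ∀ g : G, g * g ∈ A) {t : G}
    (htT : t ∈ (T : Subgroup G)) (htx : t * D.x = D.x * t) :
    ∃ y ∈ (T : Subgroup G), y * y = 1 ∧ y * D.x = D.x * y ∧ y * D.d = D.d * y ∧ t⁻¹ * y ∈ A := by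
  have : Fact (Nat.Prime 2) := ⟨Nat.prime_two⟩
  obtain ⟨e, heA, hex', hez⟩ := D.exists_e hA2
  have hzx : D.x * D.z = D.z * D.x := D.zT_comm D.hxT
  have hdz : D.d * D.z * D.d⁻¹ = D.z := by rw [D.zT_comm D.dT, mul_inv_cancel_right]
  let W : Subgroup G := zpowers D.z ⊔ zpowers D.x
  let N : Subgroup G := normalizer (W : Set G)
  let Cv : Subgroup G := centralizer ({D.z, D.x} : Set G)
  have hWle : ∀ v ∈ W, v = 1 ∨ v = D.z ∨ v = D.x ∨ v = D.z * D.x := by
    intro v hv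
    have hle : W ≤ A := sup_le (zpowers_le.2 D.zA) (zpowers_le.2 D.hxA)
    have hcz : W ≤ centralizer {D.z} :=
      sup_le (zpowers_le.2 (mem_centralizer_singleton_iff.2 rfl))
        (zpowers_le.2 (mem_centralizer_singleton_iff.2 hzx))
    have hcx : W ≤ centralizer {D.x} :=
      sup_le (zpowers_le.2 (mem_centralizer_singleton_iff.2 hzx.symm))
        (zpowers_le.2 (mem_centralizer_singleton_iff.2 rfl))
    exact D.two_elem (hle hv)
      ((two_group_pair (two_group_zpowers_of_sq D.hx2) (two_group_zpowers_of_sq D.z2) hzx).to_le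
        (zpowers_le.2 hv))
      (mem_centralizer_singleton_iff.1 (hcx hv)) (mem_centralizer_singleton_iff.1 (hcz hv))
  have hmemN : ∀ g : G, g * D.z * g⁻¹ ∈ W → g * D.x * g⁻¹ ∈ W → g ∈ N := by
    intro g h1 h2
    have hle : W.map (MulAut.conj g).toMonoidHom ≤ W := by
      rw [Subgroup.map_sup, MonoidHom.map_zpowers, MonoidHom.map_zpowers]
      exact sup_le (zpowers_le.2 h1) (zpowers_le.2 h2)
    have heq := Subgroup.eq_of_le_of_card_ge hle
      (by rw [card_map_of_injective (MulAut.conj g).injective])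
    refine mem_normalizer_iff.2 fun w => ⟨fun hw => hle ⟨w, hw, rfl⟩, fun hw => ?_⟩
    rw [← heq] at hw
    obtain ⟨w', hw', he⟩ := hw
    have : w' = w := (MulAut.conj g).injective he
    exact this ▸ hw'
  have hzW : D.z ∈ W := mem_sup_left (mem_zpowers _)
  have hxW : D.x ∈ W := mem_sup_right (mem_zpowers _)
  have hmemCv : ∀ g : G, g ∈ Cv ↔ g * D.z = D.z * g ∧ g * D.x = D.x * g := by
    intro g
    rw [mem_centralizer_iff]
    constructor
    · exact fun h => ⟨(h D.z (Or.inl rfl)).symm, (h D.x (Or.inr rfl)).symm⟩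
    · rintro ⟨h1, h2⟩ w (rfl | rfl)
      · exact h1.symm
      · exact h2.symm
  have hCvN : Cv ≤ N := fun g hg => by
    obtain ⟨h1, h2⟩ := (hmemCv g).1 hg
    exact hmemN g (by rwa [h1, mul_inv_cancel_right]) (by rwa [h2, mul_inv_cancel_right])
  have hdN : D.d ∈ N := hmemN _ (by rwa [hdz]) (by rw [D.dxd]; exact mul_mem hzW hxW)
  have hCn : (Cv.subgroupOf N).Normal := by
    refine ⟨fun k hk g => ?_⟩
    have hk' := (hmemCv _).1 (mem_subgroupOf.1 hk)
    rw [mem_subgroupOf, hmemCv]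
    have hkW : ∀ w ∈ W, (k : G) * w = w * k := by
      intro w hw
      have hle : W ≤ centralizer {(k : G)} :=
        sup_le (zpowers_le.2 (mem_centralizer_singleton_iff.2 hk'.1.symm))
          (zpowers_le.2 (mem_centralizer_singleton_iff.2 hk'.2.symm))
      exact (mem_centralizer_singleton_iff.1 (hle hw)).symm
    have key : ∀ w ∈ W, ((g : G) * k * (g : G)⁻¹) * w = w * ((g : G) * k * (g : G)⁻¹) := by
      intro w hw
      have hw' := (mem_normalizer_iff''.1 g.2 w).1 hw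
      have := hkW _ hw'
      calc (g : G) * k * (g : G)⁻¹ * w = g * ((k : G) * ((g : G)⁻¹ * w * g)) * (g : G)⁻¹ := by group
        _ = w * ((g : G) * k * (g : G)⁻¹) := by rw [this]; group
    exact ⟨key _ hzW, key _ hxW⟩
  -- a Sylow subgroup of the centralizer normalized by `d`
  obtain ⟨Q, hQ⟩ := IsPGroup.exists_le_sylow (T.isPGroup'.comap_subtype (K := N))
  obtain ⟨P, hP⟩ := exists_sylow_inter (Cv.subgroupOf N) Q
  let PN : Subgroup ↥N := (P : Subgroup ↥(Cv.subgroupOf N)).map (Cv.subgroupOf N).subtype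
  have hPN : ∀ w : ↥N, w ∈ PN ↔ w ∈ (Q : Subgroup ↥N) ∧ (w : G) ∈ Cv := by
    intro w
    constructor
    · rintro ⟨a, ha, rfl⟩
      rw [SetLike.mem_coe, hP] at ha
      exact ⟨ha, a.2⟩
    · rintro ⟨h1, h2⟩
      exact ⟨⟨w, h2⟩, by rw [SetLike.mem_coe, hP]; exact h1, rfl⟩
  let Pg : Subgroup G := PN.map N.subtype
  have hPp : IsPGroup 2 Pg := (P.isPGroup'.map _).map _
  have hPg : ∀ w ∈ Pg, w * D.z = D.z * w ∧ w * D.x = D.x * w := by
    rintro _ ⟨a, ha, rfl⟩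
    exact (hmemCv _).1 ((hPN a).1 ha).2
  have hPA : ∀ w ∈ Pg, w ∈ A → w = 1 ∨ w = D.z ∨ w = D.x ∨ w = D.z * D.x := fun w hw hwA =>
    D.two_elem hwA (hPp.to_le (zpowers_le.2 hw)) (hPg w hw).2 (hPg w hw).1
  have hTP : ∀ w ∈ (T : Subgroup G), w * D.z = D.z * w → w * D.x = D.x * w → w ∈ Pg := by
    intro w hwT h1 h2
    have hwC : w ∈ Cv := (hmemCv w).2 ⟨h1, h2⟩
    exact ⟨⟨w, hCvN hwC⟩, (hPN _).2 ⟨hQ (mem_subgroupOf.2 hwT), hwC⟩, rfl⟩
  have hzP : D.z ∈ Pg := hTP _ D.zT rfl hzx.symm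
  have hxP : D.x ∈ Pg := hTP _ D.hxT hzx rfl
  have hdP : ∀ w ∈ Pg, D.d⁻¹ * w * D.d ∈ Pg := by
    rintro _ ⟨a, ha, rfl⟩
    have hdQ : (⟨D.d, hdN⟩ : ↥N) ∈ (Q : Subgroup ↥N) := hQ (mem_subgroupOf.2 D.dT)
    refine ⟨(⟨D.d, hdN⟩ : ↥N)⁻¹ * a * ⟨D.d, hdN⟩, (hPN _).2 ⟨mul_mem (mul_mem (inv_mem hdQ)
      ((hPN a).1 ha).1) hdQ, ?_⟩, rfl⟩
    have := hCn.conj_mem ⟨a, a.2⟩ (mem_subgroupOf.2 ((hPN a).1 ha).2) (⟨D.d, hdN⟩ : ↥N)⁻¹
    rw [mem_subgroupOf] at this
    simpa using this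
  -- an element normalizing this subgroup and permuting `z, x, z x` cyclically
  have hg0z : e * D.d * D.z * (e * D.d)⁻¹ = D.z * D.x := by
    calc e * D.d * D.z * (e * D.d)⁻¹ = e * (D.d * D.z * D.d⁻¹) * e⁻¹ := by group
      _ = D.z * D.x := by rw [hdz, hez]
  have hg0x : e * D.d * D.x * (e * D.d)⁻¹ = D.z := by
    calc e * D.d * D.x * (e * D.d)⁻¹ = e * (D.d * D.x * D.d⁻¹) * e⁻¹ := by group
      _ = (e * D.z * e⁻¹) * (e * D.x * e⁻¹) := by rw [D.dxd]; group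
      _ = D.z := by rw [hez, hex', mul_assoc, D.hx2, mul_one]
  have hg0N : e * D.d ∈ N := hmemN _ (by rw [hg0z]; exact mul_mem hzW hxW) (by rwa [hg0x])
  obtain ⟨n', hn', k, hk, hnk⟩ : ∃ n' ∈ normalizer (PN : Set ↥N), ∃ k ∈ Cv.subgroupOf N,
      n' * k = ⟨e * D.d, hg0N⟩ := by
    have h := Sylow.normalizer_sup_eq_top P
    have hm : (⟨e * D.d, hg0N⟩ : ↥N) ∈ normalizer (PN : Set ↥N) ⊔ Cv.subgroupOf N :=
      h ▸ mem_top _
    exact mem_sup_of_normal_right.1 hm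
  set n : G := (n' : G) with hn
  have hnW : n * D.z * n⁻¹ = D.z * D.x ∧ n * D.x * n⁻¹ = D.z := by
    obtain ⟨h1, h2⟩ := (hmemCv _).1 (mem_subgroupOf.1 hk)
    have hnk' : n * (k : G) = e * D.d := congrArg Subtype.val hnk
    constructor
    · rw [← hg0z, ← hnk']
      calc n * D.z * n⁻¹ = n * (D.z * (k : G)) * (k : G)⁻¹ * n⁻¹ := by group
        _ = n * k * D.z * (n * k)⁻¹ := by rw [← h1]; group
    · rw [← hg0x, ← hnk']
      calc n * D.x * n⁻¹ = n * (D.x * (k : G)) * (k : G)⁻¹ * n⁻¹ := by group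
        _ = n * k * D.x * (n * k)⁻¹ := by rw [← h2]; group
  have hnP : ∀ w ∈ Pg, n * w * n⁻¹ ∈ Pg := by
    rintro _ ⟨a, ha, rfl⟩
    exact ⟨n' * a * n'⁻¹, (mem_normalizer_iff.1 hn' a).1 ha, rfl⟩
  -- the fixed points of `n`
  have hfixW : ∀ v, (v = 1 ∨ v = D.z ∨ v = D.x ∨ v = D.z * D.x) → n * v * n⁻¹ = v → v = 1 := by
    have hxz' : D.z * D.x ≠ D.z := fun h => D.x1 (mul_left_cancel (h.trans (mul_one _).symm))
    have hzx' : D.z * D.x ≠ D.x := fun h => D.z1 (mul_right_cancel (h.trans (one_mul _).symm))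
    rintro v (rfl | rfl | rfl | rfl) h
    · rfl
    · rw [hnW.1] at h; exact absurd h hxz'
    · rw [hnW.2] at h; exact absurd h D.zx_ne
    · rw [← conj_mul, hnW.1, hnW.2, show D.z * D.x * D.z = D.x by
        rw [mul_assoc, hzx, ← mul_assoc, D.z2, one_mul]] at h
      exact absurd h.symm hzx'
  have htz : t * D.z = D.z * t := D.zT_comm htT
  have htP : t ∈ Pg := hTP t htT htz htx
  have hδ : n * t * n⁻¹ * t⁻¹ = 1 ∨ n * t * n⁻¹ * t⁻¹ = D.z ∨ n * t * n⁻¹ * t⁻¹ = D.x ∨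
      n * t * n⁻¹ * t⁻¹ = D.z * D.x :=
    hPA _ (mul_mem (hnP t htP) (inv_mem htP)) (commutator_mem hex _ _)
  obtain ⟨v, hvP, hvA, hvT, hv⟩ : ∃ v, v ∈ Pg ∧ v ∈ A ∧ v ∈ (T : Subgroup G) ∧
      n * (t * v) * n⁻¹ = t * v := by
    have hsplit : ∀ v, n * (t * v) * n⁻¹ = (n * t * n⁻¹ * t⁻¹) * (t * (n * v * n⁻¹)) := by
      intro v; group
    have hxz1 : D.x * (D.z * D.x) = D.z := by rw [← mul_assoc, hzx, mul_assoc, D.hx2, mul_one]
    rcases hδ with h | h | h | h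
    · exact ⟨1, one_mem _, A.one_mem, one_mem _, by rw [hsplit, h]; group⟩
    · refine ⟨D.z * D.x, mul_mem hzP hxP, A.mul_mem D.zA D.hxA, mul_mem D.zT D.hxT, ?_⟩
      rw [hsplit, h, ← conj_mul, hnW.1, hnW.2, ← mul_assoc D.z t, ← htz, mul_assoc t D.z]
      congr 1
      rw [mul_assoc D.z D.x, hzx, ← mul_assoc D.z, ← mul_assoc, D.z2, one_mul]
    · refine ⟨D.z, hzP, D.zA, D.zT, ?_⟩
      rw [hsplit, h, hnW.1, ← mul_assoc D.x t, ← htx, mul_assoc t D.x, hxz1]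
    · refine ⟨D.x, hxP, D.hxA, D.hxT, ?_⟩
      rw [hsplit, h, hnW.2, mul_assoc D.z D.x, ← mul_assoc D.x t, ← htx, mul_assoc t D.x, hzx,
        ← mul_assoc D.z t, ← htz, mul_assoc t D.z]
      congr 1
      rw [← mul_assoc, D.z2, one_mul]
  set y := t * v with hy
  have hyP : y ∈ Pg := mul_mem htP hvP
  have hy2 : y * y = 1 := by
    refine hfixW _ (hPA _ (mul_mem hyP hyP) (hex y)) ?_
    rw [← conj_mul, hv]
  have hyd : y * D.d = D.d * y := by
    set κ := D.d * n * D.d⁻¹ * n with hκ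
    have hκA : κ ∈ A := by
      have h1 := A.mul_mem (commutator_mem hex D.d n) (hex n)
      have : κ = D.d * n * D.d⁻¹ * n⁻¹ * (n * n) := by rw [hκ]; group
      rwa [this]
    have hκx : κ * D.x * κ⁻¹ = D.x ∧ κ * D.z * κ⁻¹ = D.z := by
      have h1 : D.d⁻¹ * D.z * D.d = D.z := by
        calc D.d⁻¹ * D.z * D.d = D.d⁻¹ * (D.d * D.z * D.d⁻¹) * D.d := by rw [hdz]
          _ = D.z := by group
      have h2 : D.d⁻¹ * (D.z * D.x) * D.d = D.x := by
        rw [← D.dxd]; group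
      constructor
      · calc κ * D.x * κ⁻¹ = D.d * (n * (D.d⁻¹ * (n * D.x * n⁻¹) * D.d) * n⁻¹) * D.d⁻¹ := by
              rw [hκ]; group
          _ = D.x := by
              rw [hnW.2, h1, hnW.1, ← conj_mul, hdz, D.dxd, ← mul_assoc, D.z2, one_mul]
      · calc κ * D.z * κ⁻¹ = D.d * (n * (D.d⁻¹ * (n * D.z * n⁻¹) * D.d) * n⁻¹) * D.d⁻¹ := by
              rw [hκ]; group
          _ = D.z := by rw [hnW.1, h2, hnW.2, hdz]
    have hκP : ∀ w ∈ Pg, D.d * w * D.d⁻¹ ∈ Pg → κ * w * κ⁻¹ ∈ Pg → κ * w * κ⁻¹ = w := by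
      intro w hw _ hkw
      set δ := κ * w * κ⁻¹ * w⁻¹ with hδdef
      have hδV : δ = 1 ∨ δ = D.z ∨ δ = D.x ∨ δ = D.z * D.x :=
        hPA _ (mul_mem hkw (inv_mem hw)) (commutator_mem hex _ _)
      have hδ2 : δ * δ = 1 ∧ κ * δ * κ⁻¹ = δ := by
        rcases hδV with h | h | h | h <;> rw [h]
        · exact ⟨one_mul _, by group⟩
        · exact ⟨D.z2, hκx.2⟩
        · exact ⟨D.hx2, hκx.1⟩
        · refine ⟨?_, by rw [← conj_mul, hκx.1, hκx.2]⟩
          calc D.z * D.x * (D.z * D.x) = D.z * (D.x * D.z) * D.x := by group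
            _ = (D.z * D.z) * (D.x * D.x) := by rw [hzx]; group
            _ = 1 := by rw [D.z2, D.hx2, one_mul]
      obtain ⟨a, b, hb, hab⟩ := Nat.exists_eq_pow_mul_and_not_dvd (orderOf_pos κ).ne' 2 (by norm_num)
      have hpb : IsPGroup 2 (zpowers (κ ^ b)) := by
        refine IsPGroup.of_card (n := a) ?_
        rw [Nat.card_zpowers, orderOf_pow, hab, Nat.gcd_eq_right (Dvd.intro_left _ rfl),
          Nat.mul_div_cancel _ (Nat.pos_of_ne_zero fun h : b = 0 => hb (by rw [h]; exact dvd_zero 2))]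
      have hcx : κ * D.x = D.x * κ := mul_inv_eq_iff_eq_mul.1 hκx.1
      have hcz : κ * D.z = D.z * κ := mul_inv_eq_iff_eq_mul.1 hκx.2
      have hkb : κ ^ b * w = w * κ ^ b := by
        rcases D.two_elem (A.pow_mem hκA b) hpb ((show Commute κ D.x from hcx).pow_left b).eq
          ((show Commute κ D.z from hcz).pow_left b).eq with h | h | h | h <;> rw [h]
        · rw [one_mul, mul_one]
        · exact (hPg w hw).1.symm
        · exact (hPg w hw).2.symm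
        · rw [mul_assoc, ← (hPg w hw).2, ← mul_assoc, ← (hPg w hw).1, mul_assoc]
      have h := pow_conj_mul (δ := δ) (w := w) (k := κ) (by rw [hδdef]; group) hδ2.2 b
      rw [hkb, mul_inv_cancel_right] at h
      obtain ⟨i, hi⟩ := Nat.odd_iff.2 (Nat.two_dvd_ne_zero.1 hb)
      rw [hi, pow_succ, pow_mul, sq, hδ2.1, one_pow, one_mul] at h
      rw [show κ * w * κ⁻¹ = δ * w by rw [hδdef]; group, ← h]
    have hdy : D.d * y * D.d⁻¹ ∈ Pg := by
      have h1 := hdP _ (hdP _ (hdP _ hyP))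
      have hz' : D.z * y * D.z⁻¹ ∈ Pg := mul_mem (mul_mem hzP hyP) (inv_mem hzP)
      have h2 := hdP _ hz'
      rw [← D.d_sq] at h2
      simpa [mul_assoc] using h2
    have hκy : κ * y * κ⁻¹ = y := by
      refine hκP y hyP hdy ?_
      have h1 := hdP _ hyP
      have h2 := hnP _ h1
      have h3 : D.z * (n * (D.d⁻¹ * y * D.d) * n⁻¹) * D.z⁻¹ ∈ Pg :=
        mul_mem (mul_mem hzP h2) (inv_mem hzP)
      have h4 := hdP _ h3
      have : κ * y * κ⁻¹ = D.d⁻¹ * (D.z * (n * (D.d⁻¹ * y * D.d) * n⁻¹) * D.z⁻¹) * D.d := by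
        calc κ * y * κ⁻¹ = D.d * n * D.d⁻¹ * (n * y * n⁻¹) * D.d * n⁻¹ * D.d⁻¹ := by
              rw [hκ]; group
          _ = _ := by rw [hv, ← D.d_sq]; group
      rwa [this]
    have hfix : n * (D.d⁻¹ * y * D.d) * n⁻¹ = D.d⁻¹ * y * D.d := by
      calc n * (D.d⁻¹ * y * D.d) * n⁻¹ = D.d⁻¹ * (κ * (n⁻¹ * y * n) * κ⁻¹) * D.d := by
            rw [hκ]; group
        _ = D.d⁻¹ * y * D.d := by
            have hny : n⁻¹ * y * n = y := by
              calc n⁻¹ * y * n = n⁻¹ * (n * y * n⁻¹) * n := by rw [hv]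
                _ = y := by group
            rw [hny, hκy]
    have hε : D.d⁻¹ * y * D.d * y⁻¹ = 1 := by
      refine hfixW _ (hPA _ (mul_mem (hdP _ hyP) (inv_mem hyP)) ?_) ?_
      · have := commutator_mem (A := A) hex D.d⁻¹ y
        rwa [inv_inv] at this
      · rw [← conj_mul, hfix, ← conj_inv, hv]
    calc y * D.d = D.d * (D.d⁻¹ * y * D.d * y⁻¹) * y := by group
      _ = D.d * y := by rw [hε, mul_one]
  refine ⟨y, mul_mem htT hvT, hy2, (hPg y hyP).2, hyd, ?_⟩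
  rw [hy, inv_mul_cancel_left]
  exact hvA

/-- The exponent by which an element fixed on `d` acts on `c`. -/
theorem exp_of_comm_d {y : G} (hyT : y ∈ (T : Subgroup G)) (hyd : y * D.d = D.d * y) :
    ∃ a : ℤ, y * D.c * y⁻¹ = D.c ^ a ∧ a % 4 = 1 := by
  obtain ⟨a, ha⟩ := mem_zpowers_iff.1 (D.hnorm y hyT)
  refine ⟨a, ha.symm, ?_⟩
  have h : D.c ^ (a * 2 ^ D.m) = D.c ^ ((2 : ℤ) ^ D.m) := by
    rw [← conj_zpow_of ha.symm]
    show y * D.d * y⁻¹ = D.d
    rw [hyd, mul_inv_cancel_right]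
  rw [zpow_eq_iff D.hc] at h
  obtain ⟨k, hk⟩ := h
  have : (a - 1) * 2 ^ D.m = 4 * k * 2 ^ D.m := by
    rw [show (a - 1) * 2 ^ D.m = a * 2 ^ D.m - 2 ^ D.m by ring, hk]; ring
  have := mul_right_cancel₀ (by positivity) this
  omega

/-- An involution `u ∈ y (A ∩ T)` centralizes an involution of `A` other than `z`. -/
theorem finish {u y : G} (hu2 : u * u = 1) (hy2 : y * y = 1) (hyx : y * D.x = D.x * y)
    (hyT : y ∈ (T : Subgroup G)) (hyd : y * D.d = D.d * y) (huT : u ∈ (T : Subgroup G))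
    (hsA : y⁻¹ * u ∈ A)
    (hcase : y * D.c = D.c * y ∨ (2 : ℤ) ^ (D.m + 2) ∣ D.r + 1) :
    ∃ q ∈ A, q * q = 1 ∧ q ≠ 1 ∧ q ≠ D.z ∧ u * q = q * u ∧ q * D.z = D.z * q := by
  obtain ⟨a, ha, ha4⟩ := D.exp_of_comm_d hyT hyd
  have hyi : y⁻¹ = y := inv_eq_of_mul_eq_one_right hy2
  set s := y⁻¹ * u with hs
  have hsT : s ∈ (T : Subgroup G) := mul_mem (inv_mem hyT) huT
  have hu : u = y * s := by rw [hs, mul_inv_cancel_left]
  have hys : y * s * y⁻¹ = s⁻¹ := by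
    rw [hyi]
    refine eq_inv_of_mul_eq_one_left ?_
    rw [← hu2, hu]; group
  rcases D.hS s hsA hsT with hC | hC
  · obtain ⟨i, hi⟩ := mem_zpowers_iff.1 hC
    rw [← hi, conj_zpow_of ha, ← zpow_neg, zpow_eq_iff D.hc] at hys
    have h2 := dvd_two_mul_of_mul (n := D.m + 2) (i := i) (s := a + 1) (by omega)
      (by rwa [show i * (a + 1) = a * i - -i by ring])
    refine ⟨D.x, D.hxA, D.hx2, D.x1, D.zx_ne.symm, ?_, D.zT_comm D.hxT⟩
    have hsz : s = 1 ∨ s = D.z := by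
      refine D.sq_mem hC ?_
      rw [← hi, ← zpow_add, zpow_eq_one_iff D.hc, ← two_mul]
      exact h2
    have hsx : s * D.x = D.x * s := by
      rcases hsz with h | h <;> rw [h]
      · rw [one_mul, mul_one]
      · exact (D.zT_comm D.hxT).symm
    rw [hu, mul_assoc, hsx, ← mul_assoc, hyx, mul_assoc]
  · obtain ⟨j, hj⟩ := mem_zpowers_iff.1 hC
    have hsj : s = D.x * D.c ^ j := by rw [hj, ← mul_assoc, D.hx2, one_mul]
    have hsC : s ∉ zpowers D.c := fun h => D.hxC (by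
      have := mul_mem h (inv_mem (zpow_mem (mem_zpowers D.c) j))
      rwa [hsj, mul_inv_cancel_right] at this)
    have hs2 : s * s = 1 ∧ y * s = s * y := by
      rcases hcase with hc | hc
      · have hcomm : y * s = s * y := by
          rw [hsj, ← mul_assoc, hyx, mul_assoc, ((show Commute y D.c from hc).zpow_right j).eq,
            mul_assoc]
        rw [hcomm, mul_inv_cancel_right] at hys
        exact ⟨mul_eq_one_iff_eq_inv.2 hys, hcomm⟩
      · have hs2 : s * s = 1 := by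
          have e : s * s = D.x * D.c ^ j * D.x⁻¹ * (D.x * D.x) * D.c ^ j := by rw [hsj]; group
          rw [e, D.hx2, mul_one, conj_zpow_of D.hr, ← zpow_add, zpow_eq_one_iff D.hc,
            show D.r * j + j = (D.r + 1) * j by ring]
          exact dvd_mul_of_dvd_left hc j
        rw [← eq_inv_of_mul_eq_one_left hs2] at hys
        exact ⟨hs2, mul_inv_eq_iff_eq_mul.1 hys⟩
    refine ⟨s, hsA, hs2.1, fun h => hsC (h ▸ one_mem _), fun h => hsC (h ▸ D.zC), ?_,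
      D.zT_comm hsT⟩
    rw [hu, ← mul_assoc s y s, ← hs2.2]

end Data

end Cfsg.Agent.Lib.GammaRankOne
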