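import Mathlib
import Cfsg.Agent.Lib.GammaRankOne.Main

/-!
# The theorem on four groups acting on groups of 2-rank at least two
-/

set_option autoImplicit false

namespace Cfsg.Agent.Lib.GammaRankOne

open Subgroup
open scoped Pointwise

variable {G : Type*} [Group G] [Finite G]

theorem exists_four_centralized (A : Subgroup G) [A.Normal] (hA2 : ∀ H : Subgroup ↥A, H.index ≠ 2)
    (hex : ∀ g : G, g * g ∈ A) (U : Subgroup G) (hU : ∀ u ∈ U, u * u = 1)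
    (hU3 : ∃ a ∈ U, ∃ b ∈ U, a ≠ 1 ∧ b ≠ 1 ∧ a ≠ b)
    (hrank : ∃ p ∈ A, ∃ q ∈ A, p * p = 1 ∧ q * q = 1 ∧ p * q = q * p ∧ p ≠ 1 ∧ q ≠ 1 ∧ p ≠ q) :
    ∃ u ∈ U, u ≠ 1 ∧ ∃ p ∈ A, ∃ q ∈ A, p * p = 1 ∧ q * q = 1 ∧ p * q = q * p ∧ p ≠ 1 ∧ q ≠ 1 ∧
      p ≠ q ∧ u * p = p * u ∧ u * q = q * u := by
  have : Fact (Nat.Prime 2) := ⟨Nat.prime_two⟩
  obtain ⟨T, hUT⟩ := IsPGroup.exists_le_sylow (p := 2) (P := U) (fun u =>
    ⟨1, Subtype.ext (by simp only [SubmonoidClass.coe_pow, OneMemClass.coe_one, pow_one, sq]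
                        exact hU _ u.2)⟩)
  obtain ⟨a₁, ha₁, a₂, ha₂, ha₁1, ha₂1, ha12⟩ := hU3
  have ha₃1 : a₁ * a₂ ≠ 1 := fun h => ha12 (by
    rw [mul_eq_one_iff_eq_inv, inv_eq_of_mul_eq_one_right (hU a₂ ha₂)] at h
    exact h)
  -- two commuting involutions in `T ∩ A`
  obtain ⟨p, hp, q, hq, hp2, hq2, hpq, hp1, hq1, hne⟩ := hrank
  obtain ⟨T', hT'⟩ := IsPGroup.exists_le_sylow
    (two_group_pair (two_group_zpowers_of_sq hp2) (two_group_zpowers_of_sq hq2) hpq)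
  obtain ⟨g, hg⟩ := MulAction.exists_smul_eq G T' T
  have hconj : ∀ a ∈ A, a ∈ zpowers q ⊔ zpowers p →
      ∃ b : ↥(T : Subgroup G), b ∈ A.subgroupOf (T : Subgroup G) ∧ (b : G) = g * a * g⁻¹ := by
    intro a haA ha
    have h1 : g * a * g⁻¹ ∈ (T : Subgroup G) := by
      rw [← hg]
      show MulAut.conj g a ∈ MulAut.conj g • (T' : Subgroup G)
      exact smul_mem_pointwise_smul a (MulAut.conj g) _ (hT' ha)
    exact ⟨⟨_, h1⟩, Subgroup.Normal.conj_mem inferInstance a haA g, rfl⟩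
  obtain ⟨p', hp', hp'e⟩ := hconj p hp (mem_sup_right (mem_zpowers _))
  obtain ⟨q', hq', hq'e⟩ := hconj q hq (mem_sup_left (mem_zpowers _))
  have hrankT : ∃ p ∈ A.subgroupOf (T : Subgroup G), ∃ q ∈ A.subgroupOf (T : Subgroup G),
      p * p = 1 ∧ q * q = 1 ∧ p * q = q * p ∧ p ≠ 1 ∧ q ≠ 1 ∧ p ≠ q := by
    refine ⟨p', hp', q', hq', Subtype.ext ?_, Subtype.ext ?_, Subtype.ext ?_, fun h => ?_,
      fun h => ?_, fun h => ?_⟩
    · simp only [Subgroup.coe_mul, OneMemClass.coe_one, hp'e]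
      rw [conj_mul, hp2, mul_one, mul_inv_cancel]
    · simp only [Subgroup.coe_mul, OneMemClass.coe_one, hq'e]
      rw [conj_mul, hq2, mul_one, mul_inv_cancel]
    · simp only [Subgroup.coe_mul, hp'e, hq'e]
      rw [conj_mul, conj_mul, hpq]
    · rw [h, OneMemClass.coe_one] at hp'e
      exact hp1 (conj_eq_one_iff.1 hp'e.symm)
    · rw [h, OneMemClass.coe_one] at hq'e
      exact hq1 (conj_eq_one_iff.1 hq'e.symm)
    · rw [h, hq'e] at hp'e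
      exact hne (mul_left_cancel (mul_right_cancel hp'e)).symm
  rcases shape T.isPGroup' (A.subgroupOf (T : Subgroup G)) hrankT with
    ⟨z, hz, q, hq, hzc, hz2, hq2, hz1, hq1, hqz, hact⟩ |
    ⟨c, x, m, r, hc, hx, hco, hx2, hxC, hCn, hr, hr4, hrr, hS⟩
  · -- a four group normalized by `T`
    obtain ⟨u, hu, hu1, huT, huq⟩ : ∃ (u : G) (hu : u ∈ U), u ≠ 1 ∧ u ∈ (T : Subgroup G) ∧
        (⟨u, hUT hu⟩ : ↥(T : Subgroup G)) * q = q * ⟨u, hUT hu⟩ := by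
      rcases hact ⟨a₁, hUT ha₁⟩ with h1 | h1
      · exact ⟨a₁, ha₁, ha₁1, hUT ha₁, mul_inv_eq_iff_eq_mul.1 h1⟩
      rcases hact ⟨a₂, hUT ha₂⟩ with h2 | h2
      · exact ⟨a₂, ha₂, ha₂1, hUT ha₂, mul_inv_eq_iff_eq_mul.1 h2⟩
      refine ⟨a₁ * a₂, U.mul_mem ha₁ ha₂, ha₃1, hUT (U.mul_mem ha₁ ha₂),
        mul_inv_eq_iff_eq_mul.1 ?_⟩
      calc (⟨a₁ * a₂, _⟩ : ↥(T : Subgroup G)) * q * (⟨a₁ * a₂, _⟩ : ↥(T : Subgroup G))⁻¹
          = ⟨a₁, hUT ha₁⟩ * ((⟨a₂, hUT ha₂⟩ : ↥(T : Subgroup G)) * q *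
              (⟨a₂, hUT ha₂⟩ : ↥(T : Subgroup G))⁻¹) * (⟨a₁, hUT ha₁⟩ : ↥(T : Subgroup G))⁻¹ := by
            rw [show (⟨a₁ * a₂, _⟩ : ↥(T : Subgroup G)) = ⟨a₁, hUT ha₁⟩ * ⟨a₂, hUT ha₂⟩ from rfl]
            group
        _ = q := by
            rw [h2, ← conj_mul, h1, mem_center_iff.1 hzc, mul_inv_cancel_right, ← mul_assoc, hz2,
              one_mul]
    refine ⟨u, hu, hu1, z, hz, q, hq, congrArg Subtype.val hz2, congrArg Subtype.val hq2,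
      (congrArg Subtype.val (mem_center_iff.1 hzc q)).symm,
      fun h => hz1 (Subtype.ext h), fun h => hq1 (Subtype.ext h),
      fun h => hqz (Subtype.ext h.symm), ?_, congrArg Subtype.val huq⟩
    exact congrArg Subtype.val (mem_center_iff.1 hzc ⟨u, huT⟩)
  -- the Sylow subgroup of `A` has a cyclic subgroup of index two
  let D : Data A T :=
    { c := c
      x := x
      m := m
      r := r
      hcA := hc
      hcT := c.2
      hxA := hx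
      hxT := x.2
      hc := by rw [orderOf_coe]; exact hco
      hx2 := congrArg Subtype.val hx2
      hxC := fun h => hxC (by
        obtain ⟨i, hi⟩ := mem_zpowers_iff.1 h
        exact mem_zpowers_iff.2 ⟨i, Subtype.ext hi⟩)
      hr := by simpa using congrArg Subtype.val hr
      hr4 := hr4
      hrr := hrr
      hS := fun s hsA hsT => by
        rcases hS ⟨s, hsT⟩ hsA with h | h <;> obtain ⟨i, hi⟩ := mem_zpowers_iff.1 h
        · exact Or.inl (mem_zpowers_iff.2 ⟨i, by simpa using congrArg Subtype.val hi⟩)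
        · exact Or.inr (mem_zpowers_iff.2 ⟨i, by simpa using congrArg Subtype.val hi⟩)
      hnorm := fun t ht => by
        obtain ⟨i, hi⟩ := mem_zpowers_iff.1 (hCn.conj_mem c (mem_zpowers _) ⟨t, ht⟩)
        exact mem_zpowers_iff.2 ⟨i, by simpa using congrArg Subtype.val hi⟩ }
  have hxi := D.xinv
  -- how `T` moves `x`
  have hb : ∀ t ∈ (T : Subgroup G), ∃ b : ℤ, t * D.x * t⁻¹ = D.x * D.c ^ b ∧
      (2 : ℤ) ^ (D.m + 2) ∣ b * (D.r + 1) := by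
    intro t ht
    have hA' : t * D.x * t⁻¹ ∈ A := Subgroup.Normal.conj_mem inferInstance _ D.hxA t
    have hT'' : t * D.x * t⁻¹ ∈ (T : Subgroup G) := mul_mem (mul_mem ht D.hxT) (inv_mem ht)
    have hnot : t * D.x * t⁻¹ ∉ zpowers D.c := by
      intro h
      obtain ⟨i, hi⟩ := mem_zpowers_iff.1 h
      obtain ⟨a, ha⟩ := mem_zpowers_iff.1 (D.hnorm _ (inv_mem ht))
      refine D.hxC (mem_zpowers_iff.2 ⟨a * i, ?_⟩)
      rw [← conj_zpow_of ha.symm, hi]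
      group
    obtain ⟨b, hb⟩ := mem_zpowers_iff.1 ((D.hS _ hA' hT'').resolve_left hnot)
    have hb' : t * D.x * t⁻¹ = D.x * D.c ^ b := by rw [hb, ← mul_assoc, D.hx2, one_mul]
    refine ⟨b, hb', ?_⟩
    rw [← zpow_eq_one_iff D.hc, mul_comm b, add_mul, one_mul, zpow_add, ← conj_zpow_of D.hr]
    have h1 : t * D.x * t⁻¹ * (t * D.x * t⁻¹) = 1 := by
      rw [conj_mul, D.hx2, mul_one, mul_inv_cancel]
    rw [hb'] at h1
    rw [← h1, hxi]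
    group
  -- elements of `T` moving `x` within its class give the involutions
  have hY : ∀ u ∈ (T : Subgroup G), ∀ b : ℤ, u * D.x * u⁻¹ = D.x * D.c ^ b → b % 2 = 0 →
      ∃ y ∈ (T : Subgroup G), y * y = 1 ∧ y * D.x = D.x * y ∧ y * D.d = D.d * y ∧ y⁻¹ * u ∈ A := by
    intro u hu b hb hb0
    obtain ⟨k, hk⟩ : ∃ k, (D.r - 1) = 2 * k := ⟨(D.r - 1) / 2, by have := D.hr4; omega⟩
    obtain ⟨v, w, hvw⟩ : IsCoprime k ((2 : ℤ) ^ (D.m + 2)) :=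
      ((Int.prime_two.coprime_iff_not_dvd.2 (by have := D.hr4; omega)).pow_left).symm
    set i : ℤ := b / 2 * v
    have hci : D.c ^ i * D.x * (D.c ^ i)⁻¹ = D.x * D.c ^ b := by
      calc D.c ^ i * D.x * (D.c ^ i)⁻¹
          = D.x * (D.x⁻¹ * D.c ^ i * D.x) * (D.c ^ i)⁻¹ := by group
        _ = D.x * (D.x * D.c ^ i * D.x⁻¹) * (D.c ^ i)⁻¹ := by rw [hxi]
        _ = D.x * D.c ^ (D.r * i - i) := by rw [conj_zpow_of D.hr]; group
        _ = D.x * D.c ^ b := by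
          congr 1
          rw [zpow_eq_iff D.hc]
          refine ⟨-(b * w), ?_⟩
          have hbb : b = 2 * (b / 2) := by omega
          calc D.r * i - i - b = (D.r - 1) * (b / 2 * v) - b := by ring
            _ = 2 * (b / 2) * (k * v) - b := by rw [hk]; ring
            _ = b * (1 - w * 2 ^ (D.m + 2)) - b := by
                rw [← hbb, ← hvw]; ring
            _ = 2 ^ (D.m + 2) * -(b * w) := by ring
    set t := (D.c ^ i)⁻¹ * u with ht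
    have htx : t * D.x = D.x * t := by
      refine mul_inv_eq_iff_eq_mul.1 ?_
      calc t * D.x * t⁻¹ = (D.c ^ i)⁻¹ * (u * D.x * u⁻¹) * D.c ^ i := by rw [ht]; group
        _ = D.x := by rw [hb, ← hci]; group
    obtain ⟨y, hy, hy2, hyx, hyd, hty⟩ := D.exists_y hA2 hex
      (mul_mem (inv_mem (Subgroup.zpow_mem _ D.hcT i)) hu) htx
    refine ⟨y, hy, hy2, hyx, hyd, ?_⟩
    have h2 : y⁻¹ * u = (t⁻¹ * y)⁻¹ * (u⁻¹ * (D.c ^ i) * u) := by rw [ht]; group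
    rw [h2]
    refine A.mul_mem (A.inv_mem hty) ?_
    have := Subgroup.Normal.conj_mem (inferInstanceAs A.Normal) _ (A.zpow_mem D.hcA i) u⁻¹
    rwa [inv_inv] at this
  -- conclude from an involution commuting with `c`, or from `r = -1`
  have hend : ∀ u ∈ U, u ≠ 1 → ∀ y ∈ (T : Subgroup G), y * y = 1 → y * D.x = D.x * y →
      y * D.d = D.d * y → y⁻¹ * u ∈ A →
      (y * D.c = D.c * y ∨ (2 : ℤ) ^ (D.m + 2) ∣ D.r + 1) → ∃ u ∈ U, u ≠ 1 ∧ ∃ p ∈ A, ∃ q ∈ A,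
        p * p = 1 ∧ q * q = 1 ∧ p * q = q * p ∧ p ≠ 1 ∧ q ≠ 1 ∧ p ≠ q ∧ u * p = p * u ∧
          u * q = q * u := by
    intro u hu hu1 y hy hy2 hyx hyd hyu hcase
    obtain ⟨q, hqA, hq2, hq1, hqz, huq, hqzc⟩ :=
      D.finish (hU u hu) hy2 hyx hy hyd (hUT hu) hyu hcase
    exact ⟨u, hu, hu1, D.z, D.zA, q, hqA, D.z2, hq2, hqzc.symm, D.z1, hq1, hqz.symm,
      D.zT_comm (hUT hu), huq⟩
  by_cases hdih : (2 : ℤ) ^ (D.m + 2) ∣ D.r + 1
  · obtain ⟨b₁, hb₁, -⟩ := hb a₁ (hUT ha₁)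
    obtain ⟨b₂, hb₂, -⟩ := hb a₂ (hUT ha₂)
    obtain ⟨u, hu, hu1, b, hub, hb0⟩ : ∃ u ∈ U, u ≠ 1 ∧ ∃ b : ℤ,
        u * D.x * u⁻¹ = D.x * D.c ^ b ∧ b % 2 = 0 := by
      by_cases h1 : b₁ % 2 = 0
      · exact ⟨a₁, ha₁, ha₁1, b₁, hb₁, h1⟩
      by_cases h2 : b₂ % 2 = 0
      · exact ⟨a₂, ha₂, ha₂1, b₂, hb₂, h2⟩
      obtain ⟨a, ha⟩ := mem_zpowers_iff.1 (D.hnorm a₁ (hUT ha₁))
      have haodd : a % 2 = 1 := by
        by_contra hcon
        have h4 : (a₁ * D.c * a₁⁻¹) ^ ((2 : ℤ) ^ (D.m + 1)) = 1 := by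
          rw [← ha, ← zpow_mul, zpow_eq_one_iff D.hc]
          exact ⟨a / 2, by
            have : a = 2 * (a / 2) := by omega
            calc a * 2 ^ (D.m + 1) = 2 * (a / 2) * 2 ^ (D.m + 1) := by rw [← this]
              _ = 2 ^ (D.m + 2) * (a / 2) := by ring⟩
        rw [conj_zpow, conj_eq_one_iff] at h4
        exact D.z1 h4
      refine ⟨a₁ * a₂, U.mul_mem ha₁ ha₂, ha₃1, b₁ + a * b₂, ?_, ?_⟩
      · calc a₁ * a₂ * D.x * (a₁ * a₂)⁻¹ = a₁ * (a₂ * D.x * a₂⁻¹) * a₁⁻¹ := by group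
          _ = (a₁ * D.x * a₁⁻¹) * (a₁ * D.c ^ b₂ * a₁⁻¹) := by rw [hb₂]; group
          _ = D.x * D.c ^ (b₁ + a * b₂) := by rw [hb₁, conj_zpow_of ha.symm, zpow_add]; group
      · rw [Int.add_emod, Int.mul_emod, haodd]
        omega
    obtain ⟨y, hy, hy2, hyx, hyd, hyu⟩ := hY u (hUT hu) b hub hb0
    exact hend u hu hu1 y hy hy2 hyx hyd hyu (Or.inr hdih)
  -- `r ≡ -1 + 2 ^ (m + 1)`
  have hr2 : (2 : ℤ) ^ (D.m + 2) ∣ D.r + 1 - 2 ^ (D.m + 1) := by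
    refine (dvd_or_of_two_mul (dvd_two_mul_of_mul (n := D.m + 2) (s := D.r - 1)
      (by have := D.hr4; omega) ?_)).resolve_left hdih
    rw [show (D.r + 1) * (D.r - 1) = D.r * D.r - 1 by ring]
    exact D.hrr
  have heven : ∀ u ∈ (T : Subgroup G), ∃ b : ℤ, u * D.x * u⁻¹ = D.x * D.c ^ b ∧ b % 2 = 0 := by
    intro u hu
    obtain ⟨b, hb₁, hb₂⟩ := hb u hu
    refine ⟨b, hb₁, ?_⟩
    by_contra hodd
    exact hdih (dvd_of_mul_odd (b := b) (by omega) (by rwa [mul_comm]))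
  have hget : ∀ u ∈ U, ∃ y ∈ (T : Subgroup G), y * y = 1 ∧ y * D.x = D.x * y ∧
      y * D.d = D.d * y ∧ y⁻¹ * u ∈ A := by
    intro u hu
    obtain ⟨b, h1, h2⟩ := heven u (hUT hu)
    exact hY u (hUT hu) b h1 h2
  obtain ⟨y₁, hy₁, h₁2, h₁x, h₁d, h₁u⟩ := hget a₁ ha₁
  obtain ⟨y₂, hy₂, h₂2, h₂x, h₂d, h₂u⟩ := hget a₂ ha₂
  obtain ⟨y₃, hy₃, h₃2, h₃x, h₃d, h₃u⟩ := hget (a₁ * a₂) (U.mul_mem ha₁ ha₂)
  by_cases hc1 : y₁ * D.c = D.c * y₁
  · exact hend a₁ ha₁ ha₁1 y₁ hy₁ h₁2 h₁x h₁d h₁u (Or.inl hc1)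
  by_cases hc2 : y₂ * D.c = D.c * y₂
  · exact hend a₂ ha₂ ha₂1 y₂ hy₂ h₂2 h₂x h₂d h₂u (Or.inl hc2)
  refine hend (a₁ * a₂) (U.mul_mem ha₁ ha₂) ha₃1 y₃ hy₃ h₃2 h₃x h₃d h₃u (Or.inl ?_)
  -- both act as `1 + 2 ^ (m + 1)`
  have hexp : ∀ y ∈ (T : Subgroup G), y * y = 1 → y * D.d = D.d * y → ¬ y * D.c = D.c * y →
      ∃ a : ℤ, y * D.c * y⁻¹ = D.c ^ a ∧ (2 : ℤ) ^ (D.m + 2) ∣ a - 1 - 2 ^ (D.m + 1) := by
    intro y hy hy2 hyd hyc
    obtain ⟨a, ha, ha4⟩ := D.exp_of_comm_d hy hyd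
    refine ⟨a, ha, ?_⟩
    have haa : (2 : ℤ) ^ (D.m + 2) ∣ (a - 1) * (a + 1) := by
      rw [show (a - 1) * (a + 1) = a * a - 1 by ring, ← zpow_eq_iff D.hc, zpow_one,
        ← conj_mul_of ha ha, hy2]
      group
    refine (dvd_or_of_two_mul (dvd_two_mul_of_mul (by omega) haa)).resolve_left fun h => hyc ?_
    refine mul_inv_eq_iff_eq_mul.1 ?_
    rw [ha]
    conv_rhs => rw [← zpow_one D.c]
    exact (zpow_eq_iff D.hc).2 h
  obtain ⟨e₁, he₁, ⟨k₁, hk₁⟩⟩ := hexp y₁ hy₁ h₁2 h₁d hc1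
  obtain ⟨e₂, he₂, ⟨k₂, hk₂⟩⟩ := hexp y₂ hy₂ h₂2 h₂d hc2
  have h12 : y₁ * y₂ * D.c * (y₁ * y₂)⁻¹ = D.c := by
    rw [conj_mul_of he₁ he₂]
    conv_rhs => rw [← zpow_one D.c]
    rw [zpow_eq_iff D.hc]
    refine ⟨1 + k₁ + k₂ + 2 ^ D.m + 2 ^ (D.m + 1) * (k₁ + k₂) + 2 ^ (D.m + 2) * (k₁ * k₂), ?_⟩
    have e1 : e₁ = 1 + 2 ^ (D.m + 1) + 2 ^ (D.m + 2) * k₁ := by rw [← hk₁]; ring
    have e2 : e₂ = 1 + 2 ^ (D.m + 1) + 2 ^ (D.m + 2) * k₂ := by rw [← hk₂]; ring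
    rw [e1, e2]
    ring
  have hvA : y₃⁻¹ * (y₁ * y₂) ∈ A := by
    let π := QuotientGroup.mk' A
    have h : ∀ {y u : G}, y⁻¹ * u ∈ A → π u = π y := fun {y u} h => by
      have h' : π (y⁻¹ * u) = 1 := (QuotientGroup.eq_one_iff _).2 h
      rw [map_mul, map_inv, inv_mul_eq_one] at h'
      exact h'.symm
    refine (QuotientGroup.eq_one_iff _).1 ?_
    show π _ = 1
    rw [map_mul, map_mul, map_inv, ← h h₁u, ← h h₂u, ← h h₃u, map_mul, inv_mul_cancel]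
  set v := y₃⁻¹ * (y₁ * y₂) with hv
  have hvT : v ∈ (T : Subgroup G) := mul_mem (inv_mem hy₃) (mul_mem hy₁ hy₂)
  have hy₃i : y₃⁻¹ = y₃ := inv_eq_of_mul_eq_one_right h₃2
  have hvp : IsPGroup 2 (zpowers v) := T.isPGroup'.to_le (zpowers_le.2 hvT)
  have hcomm : ∀ w : G, y₁ * w = w * y₁ → y₂ * w = w * y₂ → y₃ * w = w * y₃ → v * w = w * v := by
    intro w e1 e2 e3
    exact (((show Commute y₃ w from e3).inv_left).mul_left
      ((show Commute y₁ w from e1).mul_left (show Commute y₂ w from e2))).eq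
  have hvd : v * D.d = D.d * v := hcomm _ h₁d h₂d h₃d
  have hdc : D.d * D.c = D.c * D.d := (Commute.zpow_self D.c _).eq
  have hzc' : D.z * D.c = D.c * D.z := (Commute.zpow_self D.c _).eq
  have hxd : ¬ D.x * D.d = D.d * D.x := by
    intro h
    have := D.dxd
    rw [← h, mul_inv_cancel_right] at this
    exact D.z1 (mul_right_cancel ((one_mul D.x).trans this)).symm
  have hvc : v * D.c = D.c * v := by
    rcases D.two_elem hvA hvp (hcomm _ h₁x h₂x h₃x) (D.zT_comm hvT) with h | h | h | h <;>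
      rw [h] at hvd ⊢
    · rw [one_mul, mul_one]
    · exact hzc'
    · exact absurd hvd hxd
    · refine absurd ?_ hxd
      have hzd : D.z * D.d = D.d * D.z := (D.zT_comm D.dT).symm
      rw [mul_assoc, ← mul_assoc D.d, ← hzd, mul_assoc] at hvd
      exact mul_left_cancel hvd
  calc y₃ * D.c = (y₁ * y₂) * (v⁻¹ * D.c * v) * v⁻¹ := by rw [hv]; group
    _ = (y₁ * y₂ * D.c * (y₁ * y₂)⁻¹) * ((y₁ * y₂) * v⁻¹) := by
        rw [mul_assoc v⁻¹, ← hvc, inv_mul_cancel_left]; group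
    _ = D.c * y₃ := by rw [h12, hv]; group

end Cfsg.Agent.Lib.GammaRankOne
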